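import Cfsg.Agent.PSqPlusOne.Basic

/-! The kernel on the blocks, the pointwise stabiliser of a block and the centre of an element. -/

set_option autoImplicit false

namespace Cfsg.Agent.PSqPlusOne

open MulAction
open scoped Pointwise

variable {G Ω : Type*} [Group G] [MulAction G Ω] [Finite G] [Finite Ω] [FaithfulSMul G Ω] {p : ℕ}
  (S : Sys G Ω p)

namespace Sys

/-- The kernel of `G_a` on its blocks. -/
def K (a : Ω) : Subgroup G where
  carrier := {g | g • a = a ∧ ∀ y, y ≠ a → g • y ∈ S.Δ a y}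
  one_mem' := ⟨one_smul _ _, fun y hy => by rw [one_smul]; exact S.mem (Ne.symm hy)⟩
  mul_mem' := by
    rintro g h ⟨hg, hg'⟩ ⟨hh, hh'⟩
    refine ⟨by rw [mul_smul, hh, hg], fun y hy => ?_⟩
    have h1 := hh' y hy
    rw [mul_smul, ← S.eq h1]
    exact hg' _ (S.ne h1)
  inv_mem' := by
    rintro g ⟨hg, hg'⟩
    refine ⟨inv_smul_eq_iff.2 hg.symm, fun y hy => ?_⟩
    have hne : g⁻¹ • y ≠ a := fun e => hy (by rw [← smul_inv_smul g y, e, hg])
    have h1 := hg' _ hne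
    rw [smul_inv_smul] at h1
    rw [S.eq h1]
    exact S.mem (Ne.symm hne)

omit [Finite G] [Finite Ω] [FaithfulSMul G Ω] in
theorem K_smul_mem {a y c : Ω} {k : G} (hk : k ∈ S.K a) (hc : c ∈ S.Δ a y) : k • c ∈ S.Δ a y := by
  rw [← S.eq hc]; exact hk.2 c (S.ne hc)

omit [Finite G] [Finite Ω] [FaithfulSMul G Ω] in
theorem K_conj {a : Ω} {k : G} (g : G) (hk : k ∈ S.K a) : g * k * g⁻¹ ∈ S.K (g • a) := by
  refine ⟨by rw [mul_smul, mul_smul, inv_smul_smul, hk.1], fun y hy => ?_⟩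
  have hne : g⁻¹ • y ≠ a := fun e => hy (by rw [← e, smul_inv_smul])
  have := S.smul g (hk.2 _ hne)
  rwa [smul_inv_smul, ← mul_smul, ← mul_smul] at this

omit [Finite G] [Finite Ω] [FaithfulSMul G Ω] in
theorem K_conj' {a : Ω} {k : G} (g : G) (hg : g • a = a) (hk : k ∈ S.K a) : g * k * g⁻¹ ∈ S.K a := by
  have := S.K_conj g hk
  rwa [hg] at this

/-- The subgroup of `G_a` fixing the block of `b` pointwise. -/
def X (a b : Ω) : Subgroup G where
  carrier := {g | g • a = a ∧ ∀ y ∈ S.Δ a b, g • y = y}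
  one_mem' := ⟨one_smul _ _, fun y _ => one_smul _ _⟩
  mul_mem' := by
    rintro g h ⟨hg, hg'⟩ ⟨hh, hh'⟩
    exact ⟨by rw [mul_smul, hh, hg], fun y hy => by rw [mul_smul, hh' y hy, hg' y hy]⟩
  inv_mem' := by
    rintro g ⟨hg, hg'⟩
    exact ⟨inv_smul_eq_iff.2 hg.symm, fun y hy => inv_smul_eq_iff.2 (hg' y hy).symm⟩

omit [Finite G] [Finite Ω] [FaithfulSMul G Ω] in
theorem X_le_st {a b : Ω} (hab : a ≠ b) : S.X a b ≤ S.st a b :=
  fun _ hg => S.mem_st.2 ⟨hg.1, hg.2 b (S.mem hab)⟩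

omit [Finite G] [Finite Ω] [FaithfulSMul G Ω] in
theorem X_conj {a b : Ω} {x : G} (g : G) (hx : x ∈ S.X a b) : g * x * g⁻¹ ∈ S.X (g • a) (g • b) := by
  refine ⟨by rw [mul_smul, mul_smul, inv_smul_smul, hx.1], fun y hy => ?_⟩
  rw [← S.smul_set, Set.mem_smul_set_iff_inv_smul_mem] at hy
  rw [mul_smul, mul_smul, hx.2 _ hy, smul_inv_smul]

/-- A frame at `(a, b)`: an abelian subgroup `P` of order `p ^ 2` of `G_a` regular on the other
points, and an element `z` of order `p` of it moving `b` inside its block. -/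
structure Frame (a b : Ω) where
  P : Subgroup G
  le : P ≤ stabilizer G a
  card_P : Nat.card P = p ^ 2
  comm : ∀ g ∈ P, ∀ h ∈ P, g * h = h * g
  free : ∀ g ∈ P, ∀ y, y ≠ a → g • y = y → g = 1
  trans : ∀ y y', y ≠ a → y' ≠ a → ∃ g ∈ P, g • y = y'
  z : G
  z_mem : z ∈ P
  z_K : z ∈ S.K a
  z_order : orderOf z = p
  z_move : z • b ≠ b

omit [Finite Ω] [FaithfulSMul G Ω] in
theorem free_of_pgroup {a y : Ω} (hay : a ≠ y) (hnd : ¬ p ∣ Nat.card (S.st a y)) {g : G} {P : Subgroup G}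
    (hP : IsPGroup p P) (hg : g ∈ P) (hga : g • a = a) (hgy : g • y = y) : g = 1 := by
  haveI := Fact.mk S.hp
  have hcop : Nat.Coprime (Nat.card P) (Nat.card (S.st a y)) := by
    obtain ⟨n, hn⟩ := hP.exists_card_eq
    rw [hn]
    exact ((S.hp.coprime_iff_not_dvd).2 hnd).pow_left n
  have h1 : orderOf g ∣ Nat.card P := Subgroup.orderOf_dvd_natCard _ hg
  have h2 : orderOf g ∣ Nat.card (S.st a y) := Subgroup.orderOf_dvd_natCard _ (S.mem_st.2 ⟨hga, hgy⟩)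
  exact orderOf_eq_one_iff.1 (Nat.eq_one_of_dvd_coprimes hcop h1 h2)

omit [Finite G] [Finite Ω] [FaithfulSMul G Ω] in
theorem block_of_comm {a y : Ω} {P : Subgroup G} (hle : P ≤ stabilizer G a)
    (hcomm : ∀ g ∈ P, ∀ h ∈ P, g * h = h * g)
    (htr : ∀ y y', y ≠ a → y' ≠ a → ∃ g ∈ P, g • y = y')
    (hy : y ≠ a) {g : G} (hg : g ∈ P) (h : g • y ∈ S.Δ a y) : g ∈ S.K a := by
  refine ⟨hle hg, fun y' hy' => ?_⟩
  obtain ⟨f, hf, rfl⟩ := htr y y' hy hy'
  rw [← mul_smul, hcomm g hg f hf, mul_smul]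
  have := S.smul f h
  rwa [show f • a = a from hle hf] at this

theorem exists_frame {a b : Ω} (hab : a ≠ b) : Nonempty (S.Frame a b) := by
  classical
  haveI := Fact.mk S.hp
  have hbot : ∀ R : Subgroup G, R ≤ S.st a b → IsPGroup p R → ⊥ ≤ R → R = ⊥ := by
    intro R hR hRp _
    refine (Subgroup.eq_bot_iff_forall R).2 fun r hr => ?_
    exact S.free_of_pgroup hab (S.not_dvd_card_st hab) hRp hr (S.mem_st.1 (hR hr)).1 (S.mem_st.1 (hR hr)).2
  obtain ⟨P, hP, hPa, -, -, hcard, htr⟩ :=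
    S.sylow_orbit hab ⊥ IsPGroup.of_bot bot_le hbot
  rw [Subgroup.card_bot, mul_one] at hcard
  have hcomm : ∀ g ∈ P, ∀ h ∈ P, g * h = h * g := fun g hg h hh => by
    letI := IsPGroup.commGroupOfCardEqPrimeSq hcard
    exact congrArg Subtype.val (mul_comm (⟨g, hg⟩ : P) ⟨h, hh⟩)
  have hfree : ∀ g ∈ P, ∀ y, y ≠ a → g • y = y → g = 1 := fun g hg y hy h =>
    S.free_of_pgroup (Ne.symm hy) (S.not_dvd_card_st (Ne.symm hy)) hP hg (hPa hg) h
  have htr' : ∀ y y', y ≠ a → y' ≠ a → ∃ g ∈ P, g • y = y' := by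
    intro y y' hy hy'
    obtain ⟨g, hg, rfl⟩ := htr y hy
    obtain ⟨g', hg', rfl⟩ := htr y' hy'
    exact ⟨g' * g⁻¹, P.mul_mem hg' (P.inv_mem hg), by rw [mul_smul, inv_smul_smul]⟩
  obtain ⟨b', hb', hbb'⟩ : ∃ b' ∈ S.Δ a b, b' ≠ b :=
    Set.exists_ne_of_one_lt_ncard (by rw [S.ncard hab]; exact S.hp.one_lt) b
  obtain ⟨z, hz, hzb⟩ := htr b' (S.ne hb')
  have hzK : z ∈ S.K a := S.block_of_comm hPa hcomm htr' (Ne.symm hab) hz (hzb.symm ▸ hb')
  have hz1 : z ≠ 1 := fun e => hbb' (by rw [← hzb, e, one_smul])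
  refine ⟨⟨P, hPa, hcard, hcomm, hfree, htr', z, hz, hzK, ?_, hzb.symm ▸ hbb'⟩⟩
  have hPK : Nat.card (P ⊓ S.K a : Subgroup G) ≤ p := by
    refine le_trans ?_ (S.ncard hab).le
    rw [← Nat.card_coe_set_eq]
    refine Nat.card_le_card_of_injective
      (fun g => (⟨(g : G) • b, S.K_smul_mem g.2.2 (S.mem hab)⟩ : S.Δ a b)) fun g g' e => ?_
    have e' : (g : G) • b = (g' : G) • b := congrArg Subtype.val e
    refine Subtype.ext (inv_mul_eq_one.1 (hfree _ (P.mul_mem (P.inv_mem g'.2.1) g.2.1) b (Ne.symm hab)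
      (by rw [mul_smul, e', inv_smul_smul]))).symm
  have hd : orderOf z ∣ p ^ 2 := hcard ▸ Subgroup.orderOf_dvd_natCard _ hz
  have hd' : orderOf z ≤ p :=
    (Nat.le_of_dvd Nat.card_pos (Subgroup.orderOf_dvd_natCard _ (show z ∈ P ⊓ S.K a from ⟨hz, hzK⟩))).trans hPK
  obtain ⟨i, hi, hi'⟩ := (Nat.dvd_prime_pow S.hp).1 hd
  interval_cases i
  · rw [pow_zero, orderOf_eq_one_iff] at hi'; exact absurd hi' hz1
  · rwa [pow_one] at hi'
  · exfalso; have := S.hp.two_le; rw [hi'] at hd'; nlinarith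

namespace Frame

variable {S} {a b : Ω} (F : S.Frame a b)

/-- The points of the block of `b`, numbered by `ZMod p`. -/
def pt (s : ZMod p) : Ω := F.z ^ s.val • b

omit [Finite G] [Finite Ω] [FaithfulSMul G Ω] in
theorem pt_zero : F.pt 0 = b := by
  rw [pt, ZMod.val_zero, pow_zero, one_smul]

omit [Finite G] [Finite Ω] [FaithfulSMul G Ω] in
theorem pow_pt (n : ℕ) (s : ZMod p) : F.z ^ n • F.pt s = F.pt ((n : ZMod p) + s) := by
  haveI : NeZero p := ⟨S.hp.ne_zero⟩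
  rw [pt, pt, ← mul_smul, ← pow_add]
  congr 1
  rw [← pow_mod_orderOf F.z (n + s.val), F.z_order, ← ZMod.val_natCast, Nat.cast_add,
    ZMod.natCast_zmod_val]

omit [Finite G] [Finite Ω] [FaithfulSMul G Ω] in
theorem pow_pt' (x s : ZMod p) : F.z ^ x.val • F.pt s = F.pt (x + s) := by
  haveI : NeZero p := ⟨S.hp.ne_zero⟩
  rw [pow_pt, ZMod.natCast_zmod_val]

omit [Finite G] [Finite Ω] [FaithfulSMul G Ω] in
theorem pt_mem (hab : a ≠ b) (s : ZMod p) : F.pt s ∈ S.Δ a b :=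
  S.K_smul_mem (Subgroup.pow_mem _ F.z_K _) (S.mem hab)

omit [Finite G] [Finite Ω] [FaithfulSMul G Ω] in
theorem pt_injective (hab : a ≠ b) : Function.Injective F.pt := by
  haveI : NeZero p := ⟨S.hp.ne_zero⟩
  haveI := Fact.mk S.hp
  intro s t h
  have h' : F.z ^ (s - t).val • F.pt t = F.pt t := by rw [pow_pt', sub_add_cancel, h]
  have h1 := F.free _ (Subgroup.pow_mem _ F.z_mem _) _ (S.ne (F.pt_mem hab t)) h'
  rw [← orderOf_dvd_iff_pow_eq_one, F.z_order] at h1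
  have := Nat.eq_zero_of_dvd_of_lt h1 (ZMod.val_lt _)
  rwa [ZMod.val_eq_zero, sub_eq_zero] at this

omit [Finite G] [FaithfulSMul G Ω] in
theorem pt_surjective (hab : a ≠ b) {y : Ω} (hy : y ∈ S.Δ a b) : ∃ s, F.pt s = y := by
  classical
  haveI : NeZero p := ⟨S.hp.ne_zero⟩
  have h : Set.range F.pt = S.Δ a b := Set.eq_of_subset_of_ncard_le (by
      rintro _ ⟨s, rfl⟩; exact F.pt_mem hab s) (by
      rw [Set.ncard_range_of_injective (F.pt_injective hab), S.ncard hab, Nat.card_eq_fintype_card, ZMod.card])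
  exact (h.symm ▸ hy : y ∈ Set.range F.pt)

omit [Finite G] [Finite Ω] [FaithfulSMul G Ω] in
theorem mem_K_of_pow {g : G} (hg : g ∈ F.P) {y : Ω} (hy : y ≠ a) (h : g • y ∈ S.Δ a y) : g ∈ S.K a :=
  S.block_of_comm F.le F.comm F.trans hy hg h

omit [Finite G] [Finite Ω] [FaithfulSMul G Ω] in
theorem exists_K {y c : Ω} (hy : y ≠ a) (hc : c ∈ S.Δ a y) : ∃ k ∈ S.K a, k ∈ F.P ∧ k • y = c := by
  obtain ⟨g, hg, hgy⟩ := F.trans y c hy (S.ne hc)
  exact ⟨g, F.mem_K_of_pow hg hy (hgy ▸ hc), hg, hgy⟩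

end Frame

theorem K_inf_X {a b : Ω} (hab : a ≠ b) {g : G} (hK : g ∈ S.K a) (hX : g ∈ S.X a b) : g = 1 := by
  classical
  obtain ⟨F⟩ := S.exists_frame hab
  set M := S.K a ⊓ S.X a b with hM
  have hnorm : ∀ k ∈ S.K a, ∀ m ∈ M, k * m * k⁻¹ ∈ M := by
    rintro k hk m ⟨hm1, hm2⟩
    refine ⟨Subgroup.mul_mem _ (Subgroup.mul_mem _ hk hm1) (Subgroup.inv_mem _ hk), ?_⟩
    have := S.X_conj k hm2
    rwa [hk.1, show S.X a (k • b) = S.X a b by
      ext x; constructor <;> rintro ⟨h1, h2⟩ <;> refine ⟨h1, fun y hy => h2 y ?_⟩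
      · rwa [S.eq (S.K_smul_mem hk (S.mem hab))]
      · rwa [← S.eq (S.K_smul_mem hk (S.mem hab))]] at this
  refine eq_of_smul_eq_smul (α := Ω) fun y => ?_
  rw [one_smul]
  by_cases hy : y = a
  · rw [hy]; exact hX.1
  have horb : ∀ c ∈ S.Δ a y, orbit M c ⊆ S.Δ a y := by
    rintro c hc _ ⟨m, rfl⟩; exact S.K_smul_mem m.2.1 hc
  have hconst : ∀ c ∈ S.Δ a y, (orbit M c).ncard = (orbit M y).ncard := by
    intro c hc
    obtain ⟨k, hk, -, rfl⟩ := F.exists_K hy hc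
    have : k • orbit M y = orbit M (k • y) := by
      ext w
      constructor
      · rintro ⟨_, ⟨m, rfl⟩, rfl⟩
        exact ⟨⟨_, hnorm k hk m m.2⟩, by simp [Subgroup.smul_def, mul_smul]⟩
      · rintro ⟨m, rfl⟩
        refine ⟨(k⁻¹ * m * k) • y, ⟨⟨_, by have := hnorm k⁻¹ (Subgroup.inv_mem _ hk) m m.2; rwa [inv_inv] at this⟩, rfl⟩, ?_⟩
        simp [Subgroup.smul_def, mul_smul]
    rw [← this, Set.ncard_smul_set]
  have hdvd := ncard_eq_mul_of_partition (S.Δ a y) (fun c => orbit M c) _ (fun c _ => mem_orbit_self c)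
    horb (fun c _ d hd => orbit_eq_iff.2 hd) hconst
  rw [S.ncard (Ne.symm hy), Nat.dvd_prime S.hp] at hdvd
  have h2 : (orbit M y).ncard ∣ Nat.card (S.st a b) := by
    rw [← Nat.card_coe_set_eq]
    exact (dvd_mul_right _ _).trans ((natCard_orbit_mul_stabilizer (K := M) y) ▸
      Subgroup.card_dvd_of_le (inf_le_right.trans (S.X_le_st hab)))
  rcases hdvd with h | h
  · obtain ⟨w, hw⟩ := Set.ncard_eq_one.1 h
    have h1 : g • y = w := (hw ▸ (⟨⟨g, hK, hX⟩, rfl⟩ : g • y ∈ orbit M y) : g • y ∈ ({w} : Set Ω))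
    have h3 : y = w := (hw ▸ mem_orbit_self y : y ∈ ({w} : Set Ω))
    rw [h1, ← h3]
  · rw [h] at h2
    exact absurd h2 (S.not_dvd_card_st hab)

omit [Finite G] [Finite Ω] [FaithfulSMul G Ω] in
theorem X_smul_eq {a b : Ω} (hab : a ≠ b) {g : G} (hg : g • a = a) (hgb : g • b ∈ S.Δ a b) :
    S.X (g • a) (g • b) = S.X a b := by
  ext x
  constructor <;> rintro ⟨h1, h2⟩
  · exact ⟨by rwa [hg] at h1, fun y hy => h2 y (by rw [hg, S.eq hgb]; exact hy)⟩
  · exact ⟨by rwa [hg], fun y hy => h2 y (by rwa [hg, S.eq hgb] at hy)⟩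

theorem X_comm_K {a b : Ω} (hab : a ≠ b) {x k : G} (hx : x ∈ S.X a b) (hk : k ∈ S.K a) :
    Commute x k := by
  have h1 : x * k * x⁻¹ * k⁻¹ ∈ S.K a :=
    Subgroup.mul_mem _ (S.K_conj' x hx.1 hk) (Subgroup.inv_mem _ hk)
  have h2 : x * k * x⁻¹ * k⁻¹ ∈ S.X a b := by
    rw [show x * k * x⁻¹ * k⁻¹ = x * (k * x⁻¹ * k⁻¹) by group]
    refine Subgroup.mul_mem _ hx ?_
    have := S.X_conj k (Subgroup.inv_mem _ hx)
    rwa [S.X_smul_eq hab hk.1 (S.K_smul_mem hk (S.mem hab))] at this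
  have := S.K_inf_X hab h1 h2
  rw [mul_inv_eq_one, mul_inv_eq_iff_eq_mul] at this
  exact this

/-- `x` is a centre of `t`: `t` fixes `x` and centralises the block kernel at `x`. -/
def Cen (t : G) (x : Ω) : Prop := t • x = x ∧ ∀ k ∈ S.K x, Commute t k

theorem X_cen {a b : Ω} (hab : a ≠ b) {x : G} (hx : x ∈ S.X a b) : S.Cen x a :=
  ⟨hx.1, fun _ hk => S.X_comm_K hab hx hk⟩

omit [Finite G] [Finite Ω] [FaithfulSMul G Ω] in
theorem cen_smul {t g : G} {x : Ω} (h : S.Cen t x) (hc : Commute t g) : S.Cen t (g • x) := by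
  refine ⟨by rw [← mul_smul, hc.eq, mul_smul, h.1], fun k hk => ?_⟩
  have h1 := S.K_conj g⁻¹ hk
  rw [inv_smul_smul, inv_inv] at h1
  have := h.2 _ h1
  have h2 : Commute t (g * (g⁻¹ * k * g) * g⁻¹) := (hc.mul_right this).mul_right hc.inv_right
  rwa [show g * (g⁻¹ * k * g) * g⁻¹ = k by group] at h2

theorem cen_unique {t : G} (ht : t ≠ 1) {x y : Ω} (hx : S.Cen t x) (hy : S.Cen t y) : x = y := by
  by_contra hne
  have hcl : S.Closed {w | S.Cen t w} := by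
    intro u hu v hv huv c hc
    obtain ⟨F⟩ := S.exists_frame huv
    obtain ⟨k, hk, -, rfl⟩ := F.exists_K (Ne.symm huv) hc
    exact S.cen_smul hv (hu.2 k hk)
  have := S.closed_univ hcl hx hy hne
  refine ht (eq_of_smul_eq_smul (α := Ω) fun w => ?_)
  rw [one_smul]
  exact (Set.eq_univ_iff_forall.1 this w : S.Cen t w).1

theorem X_inf_X {a b : Ω} (hab : a ≠ b) {x : G} (h1 : x ∈ S.X a b) (h2 : x ∈ S.X b a) : x = 1 := by
  by_contra hne
  exact hab (S.cen_unique hne (S.X_cen hab h1) (S.X_cen (Ne.symm hab) h2))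

theorem no_transversal {a b : Ω} (hab : a ≠ b) (F : S.Frame a b) (T : Set Ω)
    (hT : insert b (S.Δ b a) ⊆ T) (hz : F.z • b ∉ T)
    (hinv : ∀ g ∈ F.P, g • b ∈ T → g • T = T) : False := by
  classical
  haveI := Fact.mk S.hp
  set N := F.P ⊓ stabilizer G T with hN
  have hNp : Nat.card N ≤ p := by
    have hd : Nat.card N ∣ p ^ 2 := F.card_P ▸ Subgroup.card_dvd_of_le inf_le_left
    obtain ⟨i, hi, hi'⟩ := (Nat.dvd_prime_pow S.hp).1 hd
    rcases Nat.lt_or_ge i 2 with h | h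
    · rw [hi']
      calc p ^ i ≤ p ^ 1 := Nat.pow_le_pow_right S.hp.pos (by omega)
        _ = p := pow_one p
    · exfalso
      have : N = F.P := Subgroup.eq_of_le_of_card_ge inf_le_left (by
        rw [F.card_P, hi', show i = 2 by omega])
      have hzT : F.z ∈ N := this.symm ▸ F.z_mem
      have h2 : F.z • T = T := hzT.2
      exact hz (h2 ▸ Set.smul_mem_smul_set (hT (Set.mem_insert _ _)))
  have hsub : T ⊆ insert a (Set.range fun g : N => (g : G) • b) := by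
    intro y hy
    by_cases hya : y = a
    · exact Or.inl hya
    obtain ⟨g, hg, rfl⟩ := F.trans b y (Ne.symm hab) hya
    exact Or.inr ⟨⟨g, hg, hinv g hg hy⟩, rfl⟩
  have hcard : T.ncard ≤ p + 1 := by
    refine (Set.ncard_le_ncard hsub).trans ((Set.ncard_insert_le _ _).trans ?_)
    have : (Set.range fun g : N => (g : G) • b).ncard ≤ Nat.card N := by
      rw [← Nat.card_coe_set_eq]
      exact Nat.card_le_card_of_surjective _ Set.rangeFactorization_surjective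
    omega
  have hL : insert b (S.Δ b a) = T := Set.eq_of_subset_of_ncard_le hT (by
    rw [Set.ncard_insert_of_notMem (fun h => S.ne h rfl), S.ncard (Ne.symm hab)]; exact hcard)
  obtain ⟨c, hc, hca⟩ : ∃ c ∈ S.Δ b a, c ≠ a :=
    Set.exists_ne_of_one_lt_ncard (by rw [S.ncard (Ne.symm hab)]; exact S.hp.one_lt) a
  obtain ⟨g, hg, hgb⟩ := F.trans b c (Ne.symm hab) hca
  have h1 := hinv g hg (hgb.symm ▸ hT (Set.mem_insert_of_mem _ hc))
  rw [← hL] at h1
  have := S.centre_fixed (Ne.symm hab) h1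
  exact S.ne hc (hgb.symm.trans this)

end Sys

end Cfsg.Agent.PSqPlusOne
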