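import Cfsg.Agent.PSqPlusOne.Cyclo
import Cfsg.Agent.PSqPlusOne.Local

/-! The case in which the block kernel is two-transitive on a block. -/

set_option autoImplicit false

namespace Cfsg.Agent.PSqPlusOne

open MulAction
open scoped Pointwise

variable {G Ω : Type*} [Group G] [MulAction G Ω] [Finite G] [Finite Ω] [FaithfulSMul G Ω] {p : ℕ}
  (S : Sys G Ω p)

namespace Sys

/-- The point stabiliser in the block kernel. -/
def H0 (a b : Ω) : Subgroup G := S.st a b ⊓ S.K a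

/-- The point stabiliser in the block kernel is transitive on the rest of the block. -/
def Tr (a b : Ω) : Prop :=
  ∀ c ∈ S.Δ a b, c ≠ b → ∀ d ∈ S.Δ a b, d ≠ b → ∃ h ∈ S.H0 a b, h • c = d

omit [Finite G] [Finite Ω] [FaithfulSMul G Ω] in
theorem tr_conj {a b : Ω} (h : S.Tr a b) (g : G) : S.Tr (g • a) (g • b) := by
  intro c hc hcb d hd hdb
  rw [← S.smul_set] at hc hd
  obtain ⟨c', hc', rfl⟩ := hc
  obtain ⟨d', hd', rfl⟩ := hd
  obtain ⟨k, hk, hkd⟩ := h c' hc' (fun e => hcb (congrArg (g • ·) e)) d' hd' (fun e => hdb (congrArg (g • ·) e))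
  obtain ⟨hk1, hk2⟩ := Subgroup.mem_inf.1 hk
  refine ⟨g * k * g⁻¹, Subgroup.mem_inf.2 ⟨S.mem_st.2 ⟨?_, ?_⟩, S.K_conj g hk2⟩, ?_⟩
  · rw [mul_smul, mul_smul, inv_smul_smul, (S.mem_st.1 hk1).1]
  · rw [mul_smul, mul_smul, inv_smul_smul, (S.mem_st.1 hk1).2]
  · rw [mul_smul, mul_smul]
    simp only [inv_smul_smul, hkd]

omit [Finite G] [Finite Ω] [FaithfulSMul G Ω] in
theorem tr_symm {a b : Ω} (hab : a ≠ b) (h : S.Tr a b) : S.Tr b a := by
  obtain ⟨g, hg1, hg2⟩ := S.two a b b a hab (Ne.symm hab)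
  have := S.tr_conj h g
  rwa [hg1, hg2] at this

theorem exists_fixed {a b : Ω} (hab : a ≠ b) (hp2 : p ≠ 2) (htr : S.Tr a b) (F : S.Frame a b)
    {w : G} (hw : w ∈ F.P) (hwb : w • b ∉ S.Δ a b) :
    ∃ c ∈ S.Δ a (w • b), ∀ h ∈ S.H0 a b, h • c = c := by
  classical
  haveI := Fact.mk S.hp
  haveI : NeZero p := ⟨S.hp.ne_zero⟩
  have hwa : w • a = a := F.le hw
  have hwe : ∀ s, w • F.pt s ∈ S.Δ a (w • b) := fun s => by
    have := S.smul w (F.pt_mem hab s); rwa [hwa] at this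
  have hcz : ∀ n : ℕ, ∀ y : Ω, F.z ^ n • w • y = w • F.z ^ n • y := fun n y => by
    rw [← mul_smul, ← mul_smul, F.comm _ (Subgroup.pow_mem _ F.z_mem n) _ hw]
  have hwsurj : ∀ y ∈ S.Δ a (w • b), ∃ s, w • F.pt s = y := by
    intro y hy
    rw [← hwa, ← S.smul_set] at hy
    obtain ⟨x, hx, rfl⟩ := hy
    obtain ⟨s, rfl⟩ := F.pt_surjective hab hx
    exact ⟨s, rfl⟩
  -- coordinates
  let ρ : G → ZMod p → ZMod p := fun k s => Function.invFun F.pt (k • F.pt s)
  have hρ : ∀ k ∈ S.K a, ∀ s, F.pt (ρ k s) = k • F.pt s := fun k hk s =>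
    Function.invFun_eq (F.pt_surjective hab (S.K_smul_mem hk (F.pt_mem hab s)))
  have hρinj : ∀ k ∈ S.K a, Function.Injective (ρ k) := fun k hk s t e => by
    have := congrArg F.pt e
    rw [hρ k hk, hρ k hk] at this
    exact F.pt_injective hab (MulAction.injective k this)
  let A : Finset (ZMod p) := Finset.univ.filter fun d => ∃ h ∈ S.H0 a b, h • w • b = w • F.pt d
  have hA0 : (0 : ZMod p) ∈ A :=
    Finset.mem_filter.2 ⟨Finset.mem_univ _, 1, Subgroup.one_mem _, by rw [one_smul, F.pt_zero]⟩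
  have hAne : A ≠ Finset.univ := by
    intro hu
    have horb : orbit (S.H0 a b) (w • b) = S.Δ a (w • b) := by
      refine Set.Subset.antisymm ?_ ?_
      · rintro _ ⟨h, rfl⟩
        exact S.K_smul_mem (Subgroup.mem_inf.1 h.2).2
          (S.mem (fun e => hab (MulAction.injective w (hwa.trans e))))
      · intro y hy
        obtain ⟨s, rfl⟩ := hwsurj y hy
        obtain ⟨h, hh, e⟩ := (Finset.mem_filter.1 (hu ▸ Finset.mem_univ s : s ∈ A)).2
        exact ⟨⟨h, hh⟩, e⟩
    have h1 := natCard_orbit_mul_stabilizer (K := S.H0 a b) (w • b)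
    rw [horb, Nat.card_coe_set_eq, S.ncard (fun e => hab (MulAction.injective w (hwa.trans e)))] at h1
    exact S.not_dvd_card_st hab ((Dvd.intro _ h1).trans (Subgroup.card_dvd_of_le inf_le_left))
  have hbase : ∀ k ∈ S.K a, ∀ s u, u - s ∈ A → ρ (w⁻¹ * k * w) u - ρ k s ∈ A := by
    intro k hk s u hus
    obtain ⟨h, hh, he⟩ := (Finset.mem_filter.1 hus).2
    obtain ⟨hh1, hh2⟩ := Subgroup.mem_inf.1 hh
    have hk' : w⁻¹ * k * w ∈ S.K a := by
      have := S.K_conj' w⁻¹ (inv_smul_eq_iff.2 hwa.symm) hk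
      rwa [inv_inv] at this
    refine Finset.mem_filter.2 ⟨Finset.mem_univ _,
      F.z ^ (-(ρ k s)).val * k * F.z ^ s.val * h, Subgroup.mem_inf.2 ⟨S.mem_st.2 ⟨?_, ?_⟩, ?_⟩, ?_⟩
    · rw [mul_smul, mul_smul, mul_smul, (S.mem_st.1 hh1).1,
        show F.z ^ s.val • a = a from (Subgroup.pow_mem _ F.z_K _).1, hk.1,
        show F.z ^ (-(ρ k s)).val • a = a from (Subgroup.pow_mem _ F.z_K _).1]
    · rw [mul_smul, mul_smul, mul_smul, (S.mem_st.1 hh1).2,
        show F.z ^ s.val • b = F.pt s from rfl, ← hρ k hk, F.pow_pt', neg_add_cancel, F.pt_zero]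
    · exact Subgroup.mul_mem _ (Subgroup.mul_mem _ (Subgroup.mul_mem _ (Subgroup.pow_mem _ F.z_K _) hk)
        (Subgroup.pow_mem _ F.z_K _)) hh2
    · rw [mul_smul, mul_smul, mul_smul, he, hcz, F.pow_pt', add_sub_cancel,
        show k • w • F.pt u = w • (w⁻¹ * k * w) • F.pt u by
          rw [← mul_smul, ← mul_smul]; congr 1; group,
        ← hρ _ hk', hcz, F.pow_pt']
      congr 2; ring
  have hbase' : ∀ k ∈ S.K a, ∀ s u, ind A (ρ (w⁻¹ * k * w) u - ρ k s) = ind A (u - s) := by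
    intro k hk s u
    unfold ind
    refine if_congr ⟨fun h => ?_, hbase k hk s u⟩ rfl rfl
    have hk' : w⁻¹ * k * w ∈ S.K a := by
      have := S.K_conj' w⁻¹ (inv_smul_eq_iff.2 hwa.symm) hk
      rwa [inv_inv] at this
    have hcancel : ∀ l ∈ S.K a, ∀ t, ρ l⁻¹ (ρ l t) = t := fun l hl t =>
      F.pt_injective hab (by rw [hρ _ (Subgroup.inv_mem _ hl), hρ l hl, inv_smul_smul])
    have := hbase k⁻¹ (Subgroup.inv_mem _ hk) _ _ h
    rwa [show w⁻¹ * k⁻¹ * w = (w⁻¹ * k * w)⁻¹ by group, hcancel k hk, hcancel _ hk'] at this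
  have hconjK : ∀ j : ℕ, ∀ k ∈ S.K a, (w ^ j)⁻¹ * k * w ^ j ∈ S.K a := by
    intro j k hk
    have := S.K_conj' (w ^ j)⁻¹ (inv_smul_eq_iff.2 (show w ^ j • a = a from
      (Subgroup.pow_mem _ (F.le hw) j)).symm) hk
    rwa [inv_inv] at this
  have hinv : ∀ j : ℕ, ∀ k ∈ S.K a, ∀ s u,
      convPow A j (ρ ((w ^ j)⁻¹ * k * w ^ j) u - ρ k s) = convPow A j (u - s) := by
    intro j
    induction j with
    | zero =>
      intro k hk s u
      simp only [convPow, pow_zero, inv_one, one_mul, mul_one, sub_eq_zero]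
      exact if_congr (hρinj k hk).eq_iff rfl rfl
    | succ j ih =>
      intro k hk s u
      simp only [convPow]
      set kj := (w ^ j)⁻¹ * k * w ^ j with hkj
      have hkjK : kj ∈ S.K a := hconjK j k hk
      have e1 : (w ^ (j + 1))⁻¹ * k * w ^ (j + 1) = w⁻¹ * kj * w := by rw [hkj, pow_succ]; group
      rw [e1]
      let σ : ZMod p ≃ ZMod p :=
        Equiv.ofBijective (fun t => ρ kj (t + s) - ρ k s) (Finite.injective_iff_bijective.1
          fun t t' e => add_right_cancel (hρinj kj hkjK (sub_left_inj.1 e)))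
      refine (Fintype.sum_equiv σ _ _ fun t => ?_).symm
      show _ = convPow A j (ρ kj (t + s) - ρ k s) * ind A (_ - (ρ kj (t + s) - ρ k s))
      rw [ih k hk s (t + s), add_sub_cancel_right, sub_sub_sub_cancel_right, hbase' kj hkjK (t + s) u]
      congr 2; ring
  obtain ⟨i, hi⟩ : ∃ i : ZMod p, w ^ p • b = F.pt i := by
    have hwp : w ^ p ∈ S.K a := by
      let Z : Subgroup F.P := (S.K a).subgroupOf F.P
      haveI : Z.Normal := ⟨fun n hn g => by
        have : g * n * g⁻¹ = n := by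
          apply Subtype.ext
          show (g : G) * n * (g : G)⁻¹ = n
          rw [F.comm _ g.2 _ n.2, mul_inv_cancel_right]
        rw [this]; exact hn⟩
      have hZ1 : p ≤ Nat.card Z := by
        have : orderOf (⟨⟨F.z, F.z_mem⟩, F.z_K⟩ : Z) = p := by
          rw [← Subgroup.orderOf_coe, ← Subgroup.orderOf_coe]; exact F.z_order
        exact this.symm.le.trans (Nat.le_of_dvd Nat.card_pos (orderOf_dvd_natCard _))
      have hidx : Z.index ∣ p := by
        have h := Z.card_mul_index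
        rw [F.card_P] at h
        have hd : Z.index ∣ p ^ 2 := ⟨Nat.card Z, by rw [← h, mul_comm]⟩
        obtain ⟨k, hk, hk'⟩ := (Nat.dvd_prime_pow S.hp).1 hd
        rw [hk'] at h ⊢
        rcases Nat.lt_or_ge k 2 with h2 | h2
        · calc p ^ k ∣ p ^ 1 := pow_dvd_pow p (by omega)
            _ = p := pow_one p
        · exfalso
          rw [show k = 2 by omega] at h
          have : Nat.card Z = 1 := Nat.eq_of_mul_eq_mul_right (pow_pos S.hp.pos 2) (by rw [h, one_mul])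
          have := S.hp.two_le
          omega
      obtain ⟨m, hm⟩ := hidx
      have := Z.pow_index_mem (⟨w, hw⟩ : F.P)
      have h4 : (⟨w, hw⟩ : F.P) ^ (Z.index * m) ∈ Z := by rw [pow_mul]; exact Subgroup.pow_mem _ this m
      have h3 : (⟨w, hw⟩ : F.P) ^ p ∈ Z := by rwa [← hm] at h4
      exact h3
    obtain ⟨i, hi⟩ := F.pt_surjective hab (S.K_smul_mem hwp (S.mem hab))
    exact ⟨i, hi.symm⟩
  have hwpi : w ^ p = F.z ^ i.val := by
    have := F.free ((F.z ^ i.val)⁻¹ * w ^ p)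
      (Subgroup.mul_mem _ (Subgroup.inv_mem _ (Subgroup.pow_mem _ F.z_mem _)) (Subgroup.pow_mem _ hw _)) b
      (Ne.symm hab) (by rw [mul_smul, hi]; exact inv_smul_smul _ b)
    exact (inv_mul_eq_one.1 this).symm
  have hg : ∀ h ∈ S.H0 a b, ∀ v, convPow A p (ρ h v - i) = convPow A p (v - i) := by
    intro h hh v
    obtain ⟨hh1, hh2⟩ := Subgroup.mem_inf.1 hh
    have h0 : ρ h 0 = 0 := F.pt_injective hab (by rw [hρ h hh2, F.pt_zero, (S.mem_st.1 hh1).2])
    have := hinv p h hh2 0 (v - i)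
    rw [h0, sub_zero, sub_zero] at this
    rw [← this]
    congr 1
    apply F.pt_injective hab
    rw [hρ _ (hconjK p h hh2), hwpi, mul_smul, mul_smul, F.pow_pt', add_sub_cancel, ← hρ h hh2,
      eq_inv_smul_iff, F.pow_pt', add_sub_cancel]
  obtain ⟨l, hl⟩ : ∃ l, A = {l} ∨ A = Finset.univ.erase l := by
    refine card_cases_of_convPow hp2 ⟨0, hA0⟩ hAne (-i)
      (convPow A p (-i) - convPow A p (1 - i)) (convPow A p (1 - i)) fun d => ?_
    by_cases hd : d = -i
    · rw [if_pos hd, hd]; ring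
    rw [if_neg hd, zero_add]
    obtain ⟨h, hh, he⟩ := htr (F.pt 1) (F.pt_mem hab 1)
      (fun e => one_ne_zero (F.pt_injective hab (e.trans F.pt_zero.symm)))
      (F.pt (d + i)) (F.pt_mem hab _)
      (fun e => hd (eq_neg_of_add_eq_zero_left (F.pt_injective hab (e.trans F.pt_zero.symm))))
    have := hg h hh 1
    rw [show ρ h 1 = d + i from F.pt_injective hab (by rw [hρ h (Subgroup.mem_inf.1 hh).2, he]),
      add_sub_cancel_right] at this
    exact this
  have hmemA : ∀ h ∈ S.H0 a b, ∃ d ∈ A, h • w • b = w • F.pt d := by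
    intro h hh
    obtain ⟨d, hd⟩ := hwsurj _ (S.K_smul_mem (Subgroup.mem_inf.1 hh).2
      (by have := hwe 0; rwa [F.pt_zero] at this))
    exact ⟨d, Finset.mem_filter.2 ⟨Finset.mem_univ _, h, hh, hd.symm⟩, hd.symm⟩
  rcases hl with hl | hl
  · refine ⟨w • b, by have := hwe 0; rwa [F.pt_zero] at this, fun h hh => ?_⟩
    obtain ⟨d, hd, e⟩ := hmemA h hh
    rw [hl] at hd hA0
    rw [e, Finset.mem_singleton.1 hd, ← Finset.mem_singleton.1 hA0, F.pt_zero]
  · refine ⟨w • F.pt l, hwe l, fun h hh => ?_⟩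
    obtain ⟨d, hd⟩ := hwsurj _ (S.K_smul_mem (Subgroup.mem_inf.1 hh).2 (hwe l))
    rw [← hd]
    by_contra hne
    have hdl : d ∈ A := by rw [hl]; exact Finset.mem_erase.2 ⟨fun e => hne (by rw [e]), Finset.mem_univ _⟩
    obtain ⟨h', hh', e'⟩ := (Finset.mem_filter.1 hdl).2
    have hlA : l ∈ A := Finset.mem_filter.2 ⟨Finset.mem_univ _, h⁻¹ * h',
      Subgroup.mul_mem _ (Subgroup.inv_mem _ hh) hh', by rw [mul_smul, e', hd, inv_smul_smul]⟩
    rw [hl] at hlA
    exact (Finset.mem_erase.1 hlA).1 rfl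

theorem false_of_tr {a b : Ω} (hab : a ≠ b) (hp2 : p ≠ 2) (htr : S.Tr a b) : False := by
  classical
  obtain ⟨F⟩ := S.exists_frame hab
  have hp3 : 3 ≤ p := by have := S.hp.two_le; omega
  -- a point of the block fixed by `H0` is unique
  have huniq : ∀ c, c ≠ a → (∀ h ∈ S.H0 a b, h • c = c) → ∀ c1 ∈ S.Δ a c, c1 ≠ c →
      ∀ c2 ∈ S.Δ a c, c2 ≠ c → ∃ h ∈ S.H0 a b, h • c1 = c2 := by
    intro c hca hfix c1 hc1 hc1c c2 hc2 hc2c
    obtain ⟨g, hg, rfl⟩ := F.trans b c (Ne.symm hab) hca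
    have hga : g • a = a := F.le hg
    have hblk : ∀ x ∈ S.Δ a (g • b), g⁻¹ • x ∈ S.Δ a b := fun x hx => by
      have := S.smul g⁻¹ hx
      rwa [inv_smul_smul, inv_smul_eq_iff.2 hga.symm] at this
    have hsurj : ∀ s ∈ S.H0 a b, g * s * g⁻¹ ∈ S.H0 a b := by
      have hin : ∀ s ∈ S.H0 a b, g⁻¹ * s * g ∈ S.H0 a b := by
        intro s hs
        obtain ⟨hs1, hs2⟩ := Subgroup.mem_inf.1 hs
        refine Subgroup.mem_inf.2 ⟨S.mem_st.2 ⟨?_, ?_⟩, ?_⟩
        · rw [mul_smul, mul_smul, hga, (S.mem_st.1 hs1).1, inv_smul_eq_iff, hga]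
        · rw [mul_smul, mul_smul, hfix s hs, inv_smul_smul]
        · have := S.K_conj' g⁻¹ (inv_smul_eq_iff.2 hga.symm) hs2
          rwa [inv_inv] at this
      intro s hs
      let f : S.H0 a b → S.H0 a b := fun t => ⟨_, hin t t.2⟩
      have hf : Function.Injective f := fun t t' e => by
        have := congrArg Subtype.val e
        simp only [f] at this
        exact Subtype.ext (mul_left_cancel (mul_right_cancel this))
      obtain ⟨t, ht⟩ := (Finite.injective_iff_surjective.1 hf) ⟨s, hs⟩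
      have := congrArg Subtype.val ht
      simp only [f] at this
      rw [← this, show g * (g⁻¹ * (t : G) * g) * g⁻¹ = t by group]
      exact t.2
    obtain ⟨h, hh, he⟩ := htr (g⁻¹ • c1) (hblk _ hc1) (fun e => hc1c (by rw [← e, smul_inv_smul]))
      (g⁻¹ • c2) (hblk _ hc2) (fun e => hc2c (by rw [← e, smul_inv_smul]))
    exact ⟨g * h * g⁻¹, hsurj h hh, by rw [mul_smul, mul_smul, he, smul_inv_smul]⟩
  -- `H0` is nontrivial
  obtain ⟨b1, hb1, hb1b, hmove⟩ : ∃ b1 ∈ S.Δ a b, b1 ≠ b ∧ ∃ h ∈ S.H0 a b, h • b1 ≠ b1 := by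
    obtain ⟨b1, hb1, hb1b⟩ :=
      Set.exists_ne_of_one_lt_ncard (by rw [S.ncard hab]; omega : 1 < (S.Δ a b).ncard) b
    obtain ⟨b2, hb2, hb21⟩ := Set.exists_ne_of_one_lt_ncard
      (by rw [Set.ncard_diff_singleton_of_mem (S.mem hab), S.ncard hab]; omega :
        1 < (S.Δ a b \ {b}).ncard) b1
    obtain ⟨h, hh, he⟩ := htr b1 hb1 hb1b b2 hb2.1 hb2.2
    exact ⟨b1, hb1, hb1b, h, hh, he ▸ hb21⟩
  obtain ⟨h0, hh0, hh0b1⟩ := hmove
  -- `c'` in the line `L(b, a)` outside the block of `b`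
  obtain ⟨c', hc', hc'a, hc'Δ⟩ : ∃ c' ∈ S.Δ b a, c' ≠ a ∧ c' ∉ S.Δ a b := by
    by_contra! hc
    refine S.not_sym hab (Set.eq_of_subset_of_ncard_le ?_ ?_).symm
    · rintro x (rfl | hx)
      · exact Set.mem_insert_of_mem _ (S.mem hab)
      · by_cases hxa : x = a
        · exact Or.inl hxa
        · exact Or.inr (hc x hx hxa)
    · rw [Set.ncard_insert_of_notMem (fun h => S.ne h rfl), S.ncard hab,
        Set.ncard_insert_of_notMem (fun h => S.ne h rfl), S.ncard (Ne.symm hab)]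
  obtain ⟨w, hw, hwc⟩ := F.trans b c' (Ne.symm hab) hc'a
  obtain ⟨c, hc, hcfix⟩ := S.exists_fixed hab hp2 htr F hw (hwc.symm ▸ hc'Δ)
  rw [hwc] at hc
  have htrΓ : ∀ y ∈ S.Δ b a, y ≠ a → ∀ y' ∈ S.Δ b a, y' ≠ a → ∃ h ∈ S.st a b, h • y = y' := by
    intro y hy hya y' hy' hya'
    obtain ⟨h, hh, he⟩ := S.tr_symm hab htr y hy hya y' hy' hya'
    obtain ⟨h1, h2⟩ := S.mem_st.1 (Subgroup.mem_inf.1 hh).1
    exact ⟨h, S.mem_st.2 ⟨h2, h1⟩, he⟩
  have hnorm : ∀ g ∈ S.st a b, ∀ h ∈ S.H0 a b, g * h * g⁻¹ ∈ S.H0 a b := by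
    intro g hg h hh
    obtain ⟨hh1, hh2⟩ := Subgroup.mem_inf.1 hh
    exact Subgroup.mem_inf.2
      ⟨Subgroup.mul_mem _ (Subgroup.mul_mem _ hg hh1) (Subgroup.inv_mem _ hg),
        S.K_conj' g (S.mem_st.1 hg).1 hh2⟩
  by_cases hcc : c = c'
  · subst hcc
    refine S.no_transversal hab F {y | ∀ h ∈ S.H0 a b, h • y = y} ?_ ?_ ?_
    · rintro y (rfl | hy) h hh
      · exact (S.mem_st.1 (Subgroup.mem_inf.1 hh).1).2
      · by_cases hya : y = a
        · rw [hya]; exact (S.mem_st.1 (Subgroup.mem_inf.1 hh).1).1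
        obtain ⟨g, hg, rfl⟩ := htrΓ c hc' hc'a y hy hya
        have := hcfix _ (by simpa using hnorm g⁻¹ (Subgroup.inv_mem _ hg) h hh : g⁻¹ * h * g ∈ S.H0 a b)
        rwa [mul_smul, mul_smul, inv_smul_eq_iff] at this
    · intro hz
      obtain ⟨h, hh, he⟩ := htr b1 hb1 hb1b (F.z • b) (S.K_smul_mem F.z_K (S.mem hab)) F.z_move
      exact hh0b1 (by
        have e : b1 = F.z • b := by
          have := hz h⁻¹ (Subgroup.inv_mem _ hh)
          rw [← he, inv_smul_smul] at this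
          exact this.trans he
        rw [e]; exact hz h0 hh0)
    · intro g hg hgb
      ext y
      rw [Set.mem_smul_set_iff_inv_smul_mem]
      have hga : g • a = a := F.le hg
      have hin : ∀ h ∈ S.H0 a b, g⁻¹ * h * g ∈ S.H0 a b := by
        intro h hh
        obtain ⟨h1, h2⟩ := Subgroup.mem_inf.1 hh
        refine Subgroup.mem_inf.2 ⟨S.mem_st.2 ⟨?_, ?_⟩, ?_⟩
        · rw [mul_smul, mul_smul, hga, (S.mem_st.1 h1).1, inv_smul_eq_iff, hga]
        · rw [mul_smul, mul_smul, hgb h hh, inv_smul_smul]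
        · have := S.K_conj' g⁻¹ (inv_smul_eq_iff.2 hga.symm) h2
          rwa [inv_inv] at this
      let f : S.H0 a b → S.H0 a b := fun t => ⟨_, hin t t.2⟩
      have hf : Function.Injective f := fun t t' e => by
        have := congrArg Subtype.val e
        simp only [f] at this
        exact Subtype.ext (mul_left_cancel (mul_right_cancel this))
      constructor
      · intro hy h hh
        have := hy _ (hin h hh)
        rwa [mul_smul, mul_smul, smul_inv_smul, inv_smul_eq_iff, smul_inv_smul] at this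
      · intro hy h hh
        obtain ⟨t, ht⟩ := (Finite.injective_iff_surjective.1 hf) ⟨h, hh⟩
        have := congrArg Subtype.val ht
        simp only [f] at this
        rw [← this, mul_smul, mul_smul, smul_inv_smul, hy t t.2]
  · have hca : c ≠ a := S.ne hc
    have hsub : S.Δ a c' \ {c} ⊆ S.Δ b a \ {a} := by
      rintro y ⟨hy, hyc⟩
      have e := S.eq hc
      obtain ⟨h, hh, he⟩ := huniq c hca hcfix c' (e ▸ S.mem (Ne.symm hc'a)) (Ne.symm hcc) y (e ▸ hy) hyc
      obtain ⟨h1, h2⟩ := S.mem_st.1 (Subgroup.mem_inf.1 hh).1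
      rw [← he]
      refine ⟨?_, fun e' => hc'a (MulAction.injective h (e'.trans h1.symm))⟩
      have := S.smul h hc'
      rwa [h1, h2] at this
    have heq : S.Δ a c' \ {c} = S.Δ b a \ {a} := Set.eq_of_subset_of_ncard_le hsub (by
      rw [Set.ncard_diff_singleton_of_mem hc, Set.ncard_diff_singleton_of_mem (S.mem (Ne.symm hab)),
        S.ncard (Ne.symm hc'a), S.ncard (Ne.symm hab)])
    have hfix : ∀ g ∈ S.st a b, g • c = c := by
      intro g hg
      obtain ⟨h1, h2⟩ := S.mem_st.1 hg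
      have hgc : g • c ∈ S.Δ a c' := by
        have hgc' : g • c' ∈ S.Δ a c' \ {c} := by
          rw [heq]
          refine ⟨?_, fun e => hc'a (MulAction.injective g (e.trans h1.symm))⟩
          have := S.smul g hc'
          rwa [h1, h2] at this
        rw [← S.eq hgc'.1]
        have := S.smul g hc
        rwa [h1] at this
      by_contra hne
      have hall : ∀ h ∈ S.H0 a b, h • g • c = g • c := by
        intro h hh
        have := hcfix _ (by simpa using hnorm g⁻¹ (Subgroup.inv_mem _ hg) h hh : g⁻¹ * h * g ∈ S.H0 a b)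
        rwa [mul_smul, mul_smul, inv_smul_eq_iff] at this
      obtain ⟨y, hy, hyne⟩ := Set.exists_ne_of_one_lt_ncard
        (by rw [Set.ncard_diff_singleton_of_mem hc, S.ncard (Ne.symm hc'a)]; omega :
          1 < (S.Δ a c' \ {c}).ncard) (g • c)
      obtain ⟨h, hh, he⟩ := huniq c hca hcfix (g • c) ((S.eq hc).symm ▸ hgc) hne y
        ((S.eq hc).symm ▸ hy.1) hy.2
      exact hyne (he.symm.trans (hall h hh))
    have hne : S.st a b ≠ ⊥ := by
      intro e
      refine hh0b1 ?_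
      have : h0 ∈ S.st a b := (Subgroup.mem_inf.1 hh0).1
      rw [e, Subgroup.mem_bot] at this
      rw [this, one_smul]
    rcases S.fix_eq_pair hab (S.st a b) le_rfl hne (fun g h => h) c hfix with e | e
    · exact hca e
    · refine hc'Δ ?_
      rw [e] at hc
      rw [S.eq hc]
      exact S.mem (Ne.symm hc'a)

end Sys

end Cfsg.Agent.PSqPlusOne
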