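import Cfsg.Agent.S0675
import Cfsg.Agent.PSqPlusOne.TwoTrans

/-! The case in which the block kernel acts affinely on a block, and the conclusion. -/

set_option autoImplicit false

namespace Cfsg.Agent.PSqPlusOne

open MulAction
open scoped Pointwise

variable {G Ω : Type*} [Group G] [MulAction G Ω] [Finite G] [Finite Ω] [FaithfulSMul G Ω] {p : ℕ}
  (S : Sys G Ω p)

namespace Sys

/-- The two-point stabiliser normalises `⟨z⟩`. -/
theorem normZ {a b : Ω} (hab : a ≠ b) (htr : ¬ S.Tr a b) (F : S.Frame a b) {g : G}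
    (hga : g • a = a) (hgb : g • b ∈ S.Δ a b) : ∃ m : ZMod p, g * F.z * g⁻¹ = F.z ^ m.val := by
  classical
  haveI := Fact.mk S.hp
  haveI : NeZero p := ⟨S.hp.ne_zero⟩
  let ρ : G → ZMod p → ZMod p := fun k s => Function.invFun F.pt (k • F.pt s)
  have hρ : ∀ k ∈ S.K a, ∀ s, F.pt (ρ k s) = k • F.pt s := fun k hk s =>
    Function.invFun_eq (F.pt_surjective hab (S.K_smul_mem hk (F.pt_mem hab s)))
  obtain ⟨c, hc, hcb, d, hd, hdb, hno⟩ : ∃ c ∈ S.Δ a b, c ≠ b ∧ ∃ d ∈ S.Δ a b, d ≠ b ∧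
      ∀ h ∈ S.H0 a b, h • c ≠ d := by
    simp only [Tr] at htr
    push Not at htr
    exact htr
  obtain ⟨d1, rfl⟩ := F.pt_surjective hab hc
  obtain ⟨d2, rfl⟩ := F.pt_surjective hab hd
  let D : Finset (ZMod p) := Finset.univ.filter fun x => ∃ h ∈ S.H0 a b, h • F.pt d1 = F.pt x
  have hD0 : (0 : ZMod p) ∉ D := by
    intro h0
    obtain ⟨h, hh, he⟩ := (Finset.mem_filter.1 h0).2
    rw [F.pt_zero] at he
    exact hcb (MulAction.injective h (he.trans (S.mem_st.1 (Subgroup.mem_inf.1 hh).1).2.symm))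
  have hDne : D.Nonempty :=
    ⟨d1, Finset.mem_filter.2 ⟨Finset.mem_univ _, 1, Subgroup.one_mem _, one_smul _ _⟩⟩
  have hDall : D ≠ Finset.univ.erase 0 := by
    intro hall
    have : d2 ∈ D := by
      rw [hall]
      exact Finset.mem_erase.2 ⟨fun e => hdb (by rw [e, F.pt_zero]), Finset.mem_univ _⟩
    obtain ⟨h, hh, he⟩ := (Finset.mem_filter.1 this).2
    exact hno h hh he
  have hinv : ∀ k ∈ S.K a, ∀ x, ∀ u ∈ D, ρ k (x + u) - ρ k x ∈ D := by
    intro k hk x u hu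
    obtain ⟨h, hh, he⟩ := (Finset.mem_filter.1 hu).2
    obtain ⟨hh1, hh2⟩ := Subgroup.mem_inf.1 hh
    refine Finset.mem_filter.2 ⟨Finset.mem_univ _,
      F.z ^ (-(ρ k x)).val * k * F.z ^ x.val * h, Subgroup.mem_inf.2 ⟨S.mem_st.2 ⟨?_, ?_⟩, ?_⟩, ?_⟩
    · rw [mul_smul, mul_smul, mul_smul, (S.mem_st.1 hh1).1,
        show F.z ^ x.val • a = a from (Subgroup.pow_mem _ F.z_K _).1, hk.1,
        show F.z ^ (-(ρ k x)).val • a = a from (Subgroup.pow_mem _ F.z_K _).1]
    · rw [mul_smul, mul_smul, mul_smul, (S.mem_st.1 hh1).2,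
        show F.z ^ x.val • b = F.pt x from rfl, ← hρ k hk, F.pow_pt', neg_add_cancel, F.pt_zero]
    · exact Subgroup.mul_mem _ (Subgroup.mul_mem _ (Subgroup.mul_mem _ (Subgroup.pow_mem _ F.z_K _) hk)
        (Subgroup.pow_mem _ F.z_K _)) hh2
    · rw [mul_smul, mul_smul, mul_smul, he, F.pow_pt', ← hρ k hk, F.pow_pt']
      congr 1; ring
  set k := g * F.z * g⁻¹ with hk
  have hkK : k ∈ S.K a := S.K_conj' g hga F.z_K
  have hinjk : Function.Injective (ρ k) := fun s t e => by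
    have := congrArg F.pt e
    rw [hρ k hkK, hρ k hkK] at this
    exact F.pt_injective hab (MulAction.injective k this)
  have haff := fun x => S0675.affine (Equiv.ofBijective (ρ k) (Finite.injective_iff_bijective.1 hinjk))
    D hD0 hDne hDall (hinv k hkK) x
  simp only [Equiv.ofBijective_apply] at haff
  have hfree : ∀ s, ρ k s ≠ s := by
    intro s e
    have h1 : k • F.pt s = F.pt s := by rw [← hρ k hkK, e]
    have hne : a ≠ F.pt s := Ne.symm (S.ne (F.pt_mem hab s))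
    have h2 : orderOf k = p := by
      show orderOf (g * F.z * g⁻¹) = p
      exact (orderOf_injective (MulAut.conj g).toMonoidHom (MulAut.conj g).injective F.z).trans F.z_order
    have h3 : orderOf k ∣ Nat.card (S.st a (F.pt s)) :=
      Subgroup.orderOf_dvd_natCard _ (S.mem_st.2 ⟨hkK.1, h1⟩)
    rw [h2] at h3
    exact S.not_dvd_card_st hne h3
  have hslope : ρ k 1 - ρ k 0 = 1 := by
    by_contra hne
    refine hfree (ρ k 0 / (1 - (ρ k 1 - ρ k 0))) ?_
    have h1 : (1 - (ρ k 1 - ρ k 0)) ≠ 0 := sub_ne_zero.2 (Ne.symm hne)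
    rw [haff]
    generalize hm : ρ k 1 - ρ k 0 = m at h1 ⊢
    field_simp
    ring
  refine ⟨ρ k 0, ?_⟩
  have hX : (F.z ^ (ρ k 0).val)⁻¹ * k ∈ S.X a b := by
    refine ⟨?_, fun y hy => ?_⟩
    · rw [mul_smul, hkK.1, inv_smul_eq_iff]
      exact (Subgroup.pow_mem _ F.z_K _).1.symm
    · obtain ⟨s, rfl⟩ := F.pt_surjective hab hy
      have e : ρ k s = ρ k 0 + s := by rw [haff s, hslope, one_mul]
      rw [mul_smul, ← hρ k hkK, e, inv_smul_eq_iff, F.pow_pt']
  have := S.K_inf_X hab (Subgroup.mul_mem _ (Subgroup.inv_mem _ (Subgroup.pow_mem _ F.z_K _)) hkK) hX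
  exact (inv_mul_eq_one.1 this).symm

/-- An element of the two-point stabiliser centralising `z` fixes the block pointwise. -/
theorem mem_X_of_commute {a b : Ω} (hab : a ≠ b) (F : S.Frame a b) {g : G} (hg : g ∈ S.st a b)
    (hc : Commute g F.z) : g ∈ S.X a b := by
  refine ⟨(S.mem_st.1 hg).1, fun y hy => ?_⟩
  obtain ⟨s, rfl⟩ := F.pt_surjective hab hy
  rw [Frame.pt, ← mul_smul, (hc.pow_right _).eq, mul_smul, (S.mem_st.1 hg).2]

theorem fix_mem_X {a b : Ω} (hab : a ≠ b) (htr : ¬ S.Tr a b) {h : G} (hh : h ∈ S.st a b) {c : Ω}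
    (hc : c ∈ S.Δ a b) (hcb : c ≠ b) (hfix : h • c = c) : h ∈ S.X a b := by
  haveI := Fact.mk S.hp
  haveI : NeZero p := ⟨S.hp.ne_zero⟩
  obtain ⟨F⟩ := S.exists_frame hab
  obtain ⟨h1, h2⟩ := S.mem_st.1 hh
  obtain ⟨m, hm⟩ := S.normZ hab htr F h1 (h2.symm ▸ S.mem hab)
  obtain ⟨s, rfl⟩ := F.pt_surjective hab hc
  have hp : h • F.pt s = F.pt (m * s) := by
    conv_lhs => rw [Frame.pt, ← mul_smul]
    rw [show h * F.z ^ s.val = (h * F.z * h⁻¹) ^ s.val * h by rw [conj_pow]; group, hm, mul_smul, h2,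
      ← pow_mul, ← pow_mod_orderOf, F.z_order, ← ZMod.val_mul]
    rfl
  have hs : s ≠ 0 := fun e => hcb (by rw [e, F.pt_zero])
  have hm1 : m = 1 := by
    have := F.pt_injective hab (hp.symm.trans hfix)
    exact mul_right_cancel₀ hs (this.trans (one_mul s).symm)
  refine S.mem_X_of_commute hab F hh ?_
  rw [hm1, ZMod.val_one, pow_one, mul_inv_eq_iff_eq_mul] at hm
  exact hm

end Sys

end Cfsg.Agent.PSqPlusOne
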