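import Mathlib

/-! Two-transitive groups of degree `p ^ 2 + 1` whose point stabilisers have blocks of size `p`:
designs, the centre of an element, regularity of the Sylow subgroup of a point stabiliser. -/

set_option autoImplicit false

namespace Cfsg.Agent.PSqPlusOne

open MulAction Finset
open scoped Pointwise

theorem ncard_eq_mul_of_partition {α : Type*} [Finite α] (F : Set α) (O : α → Set α) (m : ℕ)
    (hself : ∀ x ∈ F, x ∈ O x) (hsub : ∀ x ∈ F, O x ⊆ F) (heq : ∀ x ∈ F, ∀ y ∈ O x, O y = O x)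
    (hm : ∀ x ∈ F, (O x).ncard = m) : m ∣ F.ncard := by
  classical
  haveI := Fintype.ofFinite α
  rw [Set.ncard_eq_toFinset_card', Finset.card_eq_sum_card_image O F.toFinset]
  refine Finset.dvd_sum fun L hL => ?_
  obtain ⟨x, hx, rfl⟩ := Finset.mem_image.1 hL
  rw [Set.mem_toFinset] at hx
  rw [show F.toFinset.filter (fun y => O y = O x) = (O x).toFinset by
    ext y
    simp only [Finset.mem_filter, Set.mem_toFinset]
    exact ⟨fun h => h.2 ▸ hself y h.1, fun h => ⟨hsub x hx h, heq x hx y h⟩⟩,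
    ← Set.ncard_eq_toFinset_card', hm x hx]

theorem natCard_orbit_mul_stabilizer {K α : Type*} [Group K] [MulAction K α] (b : α) :
    Nat.card (orbit K b) * Nat.card (stabilizer K b) = Nat.card K := by
  rw [Nat.card_congr (orbitEquivQuotientStabilizer K b), ← Subgroup.card_eq_card_quotient_mul_card_subgroup]

/-- Faithful two-transitive action of degree `p ^ 2 + 1` together with, for every point `x`, a
`G_x`-invariant partition of the other points into blocks `Δ x y` of size `p`. -/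
structure Sys (G Ω : Type*) [Group G] [MulAction G Ω] (p : ℕ) where
  Δ : Ω → Ω → Set Ω
  hp : p.Prime
  card : Nat.card Ω = p ^ 2 + 1
  two : ∀ a b c d : Ω, a ≠ b → c ≠ d → ∃ g : G, g • a = c ∧ g • b = d
  mem : ∀ {x y : Ω}, x ≠ y → y ∈ Δ x y
  ne : ∀ {x y z : Ω}, z ∈ Δ x y → z ≠ x
  eq : ∀ {x y z : Ω}, z ∈ Δ x y → Δ x z = Δ x y
  ncard : ∀ {x y : Ω}, x ≠ y → (Δ x y).ncard = p
  smul : ∀ (g : G) {x y z : Ω}, z ∈ Δ x y → g • z ∈ Δ (g • x) (g • y)

variable {G Ω : Type*} [Group G] [MulAction G Ω] [Finite G] [Finite Ω] [FaithfulSMul G Ω] {p : ℕ}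
  (S : Sys G Ω p)

namespace Sys

omit [Finite G] [Finite Ω] [FaithfulSMul G Ω] in
theorem smul_iff (g : G) {x y z : Ω} : g • z ∈ S.Δ (g • x) (g • y) ↔ z ∈ S.Δ x y :=
  ⟨fun h => by simpa using S.smul g⁻¹ h, S.smul g⟩

omit [Finite G] [Finite Ω] [FaithfulSMul G Ω] in
theorem smul_set (g : G) (x y : Ω) : g • S.Δ x y = S.Δ (g • x) (g • y) := by
  ext z
  rw [Set.mem_smul_set_iff_inv_smul_mem, ← S.smul_iff g, smul_inv_smul]

omit [Finite G] [FaithfulSMul G Ω] in
include S in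
theorem line_dvd (L : Ω → Ω → Set Ω) (k : ℕ) (hmem : ∀ x y, x ≠ y → x ∈ L x y ∧ y ∈ L x y)
    (hsub : ∀ x y, x ≠ y → ∀ u ∈ L x y, ∀ v ∈ L x y, u ≠ v → L u v = L x y)
    (hk : ∀ x y, x ≠ y → (L x y).ncard = k) :
    (k - 1) ∣ p ^ 2 ∧ k * (k - 1) ∣ (p ^ 2 + 1) * p ^ 2 := by
  classical
  haveI := Fintype.ofFinite Ω
  obtain ⟨x0⟩ : Nonempty Ω := by
    have := S.card
    exact (Nat.card_pos_iff.1 (by omega)).1
  constructor
  · have h := ncard_eq_mul_of_partition ({x0}ᶜ : Set Ω) (fun y => L x0 y \ {x0}) (k - 1)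
      (fun y hy => ⟨(hmem x0 y (Ne.symm hy)).2, hy⟩) (fun y _ z hz => hz.2)
      (fun y hy z hz => by
        show L x0 z \ {x0} = L x0 y \ {x0}
        rw [hsub x0 y (Ne.symm hy) x0 (hmem x0 y (Ne.symm hy)).1 z hz.1 (Ne.symm hz.2)])
      (fun y hy => by
        rw [Set.ncard_diff_singleton_of_mem (hmem x0 y (Ne.symm hy)).1, hk x0 y (Ne.symm hy)])
    rwa [Set.ncard_compl, Set.ncard_singleton, S.card, Nat.add_sub_cancel] at h
  · let T : Set (Ω × Ω) := {q | q.1 ≠ q.2}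
    have hoff : ∀ s : Set Ω, ({q : Ω × Ω | q.1 ∈ s ∧ q.2 ∈ s ∧ q.1 ≠ q.2}).ncard = s.ncard * (s.ncard - 1) := by
      intro s
      rw [Set.ncard_eq_toFinset_card', Set.ncard_eq_toFinset_card', Nat.mul_sub_one, ← Finset.offDiag_card]
      congr 1
      ext q
      simp
    have h := ncard_eq_mul_of_partition T
      (fun q => {r : Ω × Ω | r.1 ∈ L q.1 q.2 ∧ r.2 ∈ L q.1 q.2 ∧ r.1 ≠ r.2}) (k * (k - 1))
      (fun q hq => ⟨(hmem _ _ hq).1, (hmem _ _ hq).2, hq⟩) (fun q _ r hr => hr.2.2)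
      (fun q hq r hr => by
        ext s
        simp only [Set.mem_setOf_eq, hsub _ _ hq _ hr.1 _ hr.2.1 hr.2.2])
      (fun q hq => by rw [hoff, hk _ _ hq])
    have hT : T = {q : Ω × Ω | q.1 ∈ (Set.univ : Set Ω) ∧ q.2 ∈ (Set.univ : Set Ω) ∧ q.1 ≠ q.2} := by
      ext q; simp [T]
    rwa [hT, hoff, Set.ncard_univ, S.card, Nat.add_sub_cancel] at h

omit [Finite G] [FaithfulSMul G Ω] in
include S in
theorem size_ne (k : ℕ) (h : k * (k - 1) ∣ (p ^ 2 + 1) * p ^ 2) : k ≠ p + 1 := by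
  rintro rfl
  rw [Nat.add_sub_cancel] at h
  have hp := S.hp
  have h' : p + 1 ∣ (p ^ 2 + 1) * p := by
    apply Nat.dvd_of_mul_dvd_mul_right hp.pos
    rw [mul_assoc, ← pow_two]; exact h
  have hc : Nat.Coprime (p + 1) p := by simp [Nat.coprime_self_add_left, Nat.coprime_add_self_left]
  have h2 := hc.dvd_of_dvd_mul_right h'
  have h3 : p + 1 ∣ 2 := by
    have e : p ^ 2 + 1 + 2 * p = (p + 1) * (p + 1) := by ring
    have h4 : p + 1 ∣ 2 * p := (Nat.dvd_add_right h2).1 ⟨p + 1, e⟩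
    exact hc.dvd_of_dvd_mul_right h4
  have := Nat.le_of_dvd two_pos h3
  have := hp.two_le
  omega

omit [Finite G] [FaithfulSMul G Ω] in
include S in
theorem line_cases (L : Ω → Ω → Set Ω) (k : ℕ) (hmem : ∀ x y, x ≠ y → x ∈ L x y ∧ y ∈ L x y)
    (hsub : ∀ x y, x ≠ y → ∀ u ∈ L x y, ∀ v ∈ L x y, u ≠ v → L u v = L x y)
    (hk : ∀ x y, x ≠ y → (L x y).ncard = k) : k ≤ 2 ∨ k = p ^ 2 + 1 := by
  obtain ⟨h1, h2⟩ := S.line_dvd L k hmem hsub hk
  obtain ⟨i, hi, hi'⟩ := (Nat.dvd_prime_pow S.hp).1 h1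
  have := S.size_ne k h2
  interval_cases i
  · left; simp at hi'; omega
  · simp at hi'; omega
  · right
    have := S.hp.two_le
    have : 4 ≤ p ^ 2 := by nlinarith
    omega

omit [Finite G] [FaithfulSMul G Ω] in
theorem not_sym {x y : Ω} (hxy : x ≠ y) : insert x (S.Δ x y) ≠ insert y (S.Δ y x) := by
  intro h
  have hsym : ∀ u v, u ≠ v → insert u (S.Δ u v) = insert v (S.Δ v u) := by
    intro u v huv
    obtain ⟨g, hg1, hg2⟩ := S.two x y u v hxy huv
    have := congrArg (fun s : Set Ω => g • s) h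
    simpa [Set.smul_set_insert, S.smul_set, hg1, hg2] using this
  have hk : ∀ u v, u ≠ v → (insert u (S.Δ u v)).ncard = p + 1 := fun u v huv => by
    rw [Set.ncard_insert_of_notMem (fun h => S.ne h rfl), S.ncard huv]
  have hsub : ∀ u v, u ≠ v → ∀ r ∈ insert u (S.Δ u v), ∀ s ∈ insert u (S.Δ u v), r ≠ s →
      insert r (S.Δ r s) = insert u (S.Δ u v) := by
    intro u v huv r hr s hs hrs
    have base : ∀ r', r' ∈ insert u (S.Δ u v) → r' ≠ u → insert u (S.Δ u r') = insert u (S.Δ u v) := by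
      intro r' hr' hne
      rw [S.eq (hr'.resolve_left hne)]
    by_cases hru : r = u
    · subst hru; exact base s hs (Ne.symm hrs)
    · have e1 : insert r (S.Δ r u) = insert u (S.Δ u v) := by rw [hsym r u hru]; exact base r hr hru
      rw [← e1] at hs ⊢
      rcases hs with rfl | hs
      · exact absurd rfl hrs
      · rw [S.eq hs]
  have h' := S.size_ne (p + 1) (S.line_dvd (fun u v => insert u (S.Δ u v)) (p + 1)
    (fun u v huv => ⟨Set.mem_insert _ _, Set.mem_insert_of_mem _ (S.mem huv)⟩) hsub hk).2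
  exact h' rfl

omit [Finite G] [FaithfulSMul G Ω] in
theorem centre_fixed {g : G} {x y : Ω} (hxy : x ≠ y)
    (h : g • insert x (S.Δ x y) = insert x (S.Δ x y)) : g • x = x := by
  by_contra hne
  rw [Set.smul_set_insert, S.smul_set] at h
  set x' := g • x with hx'
  set y' := g • y with hy'
  have hx'L : x' ∈ S.Δ x y := by
    have : x' ∈ insert x (S.Δ x y) := h ▸ Set.mem_insert _ _
    exact this.resolve_left hne
  have hxL : x ∈ S.Δ x' y' := by
    have : x ∈ insert x' (S.Δ x' y') := h ▸ Set.mem_insert _ _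
    exact this.resolve_left (Ne.symm hne)
  exact S.not_sym (Ne.symm hne) (by rw [S.eq hx'L, S.eq hxL, h])

/-- A set of points closed under passing to blocks. -/
def Closed (F : Set Ω) : Prop := ∀ x ∈ F, ∀ y ∈ F, x ≠ y → S.Δ x y ⊆ F

omit [Finite G] [FaithfulSMul G Ω] in
theorem closed_univ {F : Set Ω} (hF : S.Closed F) {x y : Ω} (hx : x ∈ F) (hy : y ∈ F) (hxy : x ≠ y) :
    F = Set.univ := by
  classical
  let cl : Ω → Ω → Set Ω := fun u v => {z | ∀ F', S.Closed F' → u ∈ F' → v ∈ F' → z ∈ F'}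
  have hclosed : ∀ u v, S.Closed (cl u v) := fun u v r hr s hs hrs z hz F' hF' hu hv =>
    hF' r (hr F' hF' hu hv) s (hs F' hF' hu hv) hrs hz
  have hequiv : ∀ (g : G) u v z, z ∈ cl u v → g • z ∈ cl (g • u) (g • v) := by
    intro g u v z hz F' hF' hu hv
    exact hz {w | g • w ∈ F'} (fun r hr s hs hrs w hw =>
      hF' (g • r) hr (g • s) hs (fun e => hrs (MulAction.injective g e)) (S.smul g hw)) hu hv
  have hcard : ∀ u v, u ≠ v → (cl u v).ncard = (cl x y).ncard := by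
    intro u v huv
    obtain ⟨g, hg1, hg2⟩ := S.two x y u v hxy huv
    have : g • cl x y = cl u v := by
      ext z
      rw [Set.mem_smul_set_iff_inv_smul_mem]
      constructor
      · intro hz
        have := hequiv g _ _ _ hz
        rwa [smul_inv_smul, hg1, hg2] at this
      · intro hz
        have := hequiv g⁻¹ _ _ _ hz
        rwa [← hg1, ← hg2, inv_smul_smul, inv_smul_smul] at this
    rw [← this, Set.ncard_smul_set]
  have hmem : ∀ u v, u ≠ v → u ∈ cl u v ∧ v ∈ cl u v :=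
    fun u v _ => ⟨fun F' _ hu _ => hu, fun F' _ _ hv => hv⟩
  have hsub : ∀ u v, u ≠ v → ∀ r ∈ cl u v, ∀ s ∈ cl u v, r ≠ s → cl r s = cl u v := by
    intro u v huv r hr s hs hrs
    exact Set.eq_of_subset_of_ncard_le (fun z hz => hz _ (hclosed u v) hr hs)
      (by rw [hcard r s hrs, hcard u v huv])
  have hge : p + 1 ≤ (cl x y).ncard := by
    rw [← S.ncard hxy, ← Set.ncard_insert_of_notMem (a := x) (fun h => S.ne h rfl)]
    refine Set.ncard_le_ncard (Set.insert_subset (hmem x y hxy).1 ?_)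
    exact hclosed x y x (hmem x y hxy).1 y (hmem x y hxy).2 hxy
  have := S.hp.two_le
  rcases S.line_cases cl _ hmem hsub (fun u v huv => hcard u v huv) with h | h
  · omega
  · have : cl x y = Set.univ := Set.eq_of_subset_of_ncard_le (Set.subset_univ _) (by
      rw [Set.ncard_univ, S.card, h])
    exact Set.eq_univ_iff_forall.2 fun z => (this.symm ▸ Set.mem_univ z : z ∈ cl x y) F hF hx hy

/-- The stabiliser of two points. -/
def st (_S : Sys G Ω p) (a b : Ω) : Subgroup G := stabilizer G a ⊓ stabilizer G b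

omit [Finite G] [Finite Ω] [FaithfulSMul G Ω] in
theorem mem_st {a b : Ω} {g : G} : g ∈ S.st a b ↔ g • a = a ∧ g • b = b := Iff.rfl

theorem fix_eq_pair {a b : Ω} (hab : a ≠ b) (Y : Subgroup G) (hY : Y ≤ S.st a b) (hne : Y ≠ ⊥)
    (hw : ∀ g : G, (∀ t ∈ Y, g * t * g⁻¹ ∈ S.st a b) → ∀ t ∈ Y, g * t * g⁻¹ ∈ Y)
    (z : Ω) (hz : ∀ t ∈ Y, t • z = z) : z = a ∨ z = b := by
  classical
  let L : Ω → Ω → Set Ω := fun u v =>
    {w | ∀ g : G, g • a = u → g • b = v → ∀ t ∈ Y, (g * t * g⁻¹) • w = w}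
  have hL : ∀ (g0 : G) w, (∀ t ∈ Y, (g0 * t * g0⁻¹) • w = w) ↔ w ∈ L (g0 • a) (g0 • b) := by
    intro g0 w
    refine ⟨fun h g hg1 hg2 t ht => ?_, fun h => h g0 rfl rfl⟩
    have hh : g0⁻¹ * g ∈ S.st a b := S.mem_st.2
      ⟨by rw [mul_smul, hg1, inv_smul_smul], by rw [mul_smul, hg2, inv_smul_smul]⟩
    have := hw (g0⁻¹ * g) (fun t ht => Subgroup.mul_mem _ (Subgroup.mul_mem _ hh (hY ht))
      (Subgroup.inv_mem _ hh)) t ht
    have h2 := h _ this
    rwa [show g0 * (g0⁻¹ * g * t * (g0⁻¹ * g)⁻¹) * g0⁻¹ = g * t * g⁻¹ by group] at h2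
  have hL0 : L a b = {w | ∀ t ∈ Y, t • w = w} := by
    ext w
    have := hL 1 w
    simp only [one_mul, inv_one, mul_one, one_smul] at this
    exact this.symm
  have hmem : ∀ u v, u ≠ v → u ∈ L u v ∧ v ∈ L u v := by
    intro u v _
    constructor <;>
    · intro g hg1 hg2 t ht
      first
      | rw [← hg1, mul_smul, mul_smul, inv_smul_smul, (S.mem_st.1 (hY ht)).1]
      | rw [← hg2, mul_smul, mul_smul, inv_smul_smul, (S.mem_st.1 (hY ht)).2]
  have hsub : ∀ u v, u ≠ v → ∀ r ∈ L u v, ∀ s ∈ L u v, r ≠ s → L r s = L u v := by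
    intro u v huv r hr s hs hrs
    obtain ⟨g0, h01, h02⟩ := S.two a b u v hab huv
    obtain ⟨g1, h11, h12⟩ := S.two a b r s hab hrs
    have hin : ∀ t ∈ Y, g1⁻¹ * g0 * t * (g1⁻¹ * g0)⁻¹ ∈ Y := by
      apply hw
      intro t ht
      refine S.mem_st.2 ⟨?_, ?_⟩
      · rw [show g1⁻¹ * g0 * t * (g1⁻¹ * g0)⁻¹ = g1⁻¹ * ((g0 * t * g0⁻¹) * g1) by group,
          mul_smul, mul_smul, h11, hr g0 h01 h02 t ht, ← h11, inv_smul_smul]
      · rw [show g1⁻¹ * g0 * t * (g1⁻¹ * g0)⁻¹ = g1⁻¹ * ((g0 * t * g0⁻¹) * g1) by group,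
          mul_smul, mul_smul, h12, hs g0 h01 h02 t ht, ← h12, inv_smul_smul]
    have hsurj : ∀ t' ∈ Y, ∃ t ∈ Y, g1⁻¹ * g0 * t * (g1⁻¹ * g0)⁻¹ = t' := by
      intro t' ht'
      let f : Y → Y := fun t => ⟨_, hin t t.2⟩
      have hf : Function.Injective f := fun t t' e => by
        have := congrArg Subtype.val e
        simp only [f] at this
        exact Subtype.ext (mul_left_cancel (mul_right_cancel this))
      obtain ⟨t, ht⟩ := (Finite.injective_iff_surjective.1 hf) ⟨t', ht'⟩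
      exact ⟨t, t.2, congrArg Subtype.val ht⟩
    rw [← h11, ← h12, ← h01, ← h02]
    ext w
    rw [← hL g1 w, ← hL g0 w]
    constructor
    · intro h t ht
      have := h _ (hin t ht)
      rwa [show g1 * (g1⁻¹ * g0 * t * (g1⁻¹ * g0)⁻¹) * g1⁻¹ = g0 * t * g0⁻¹ by group] at this
    · intro h t' ht'
      obtain ⟨t, ht, rfl⟩ := hsurj t' ht'
      rw [show g1 * (g1⁻¹ * g0 * t * (g1⁻¹ * g0)⁻¹) * g1⁻¹ = g0 * t * g0⁻¹ by group]
      exact h t ht
  have hcard : ∀ u v, u ≠ v → (L u v).ncard = (L a b).ncard := by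
    intro u v huv
    obtain ⟨g0, h01, h02⟩ := S.two a b u v hab huv
    have : g0 • L a b = L u v := by
      ext w
      rw [Set.mem_smul_set_iff_inv_smul_mem, hL0, Set.mem_setOf_eq, ← h01, ← h02, ← hL]
      refine forall₂_congr fun t _ => ?_
      rw [mul_smul, mul_smul, smul_eq_iff_eq_inv_smul g0]
    rw [← this, Set.ncard_smul_set]
  rcases S.line_cases L _ hmem hsub hcard with h | h
  · by_contra hc
    push Not at hc
    have h3 : ({a, b, z} : Set Ω) ⊆ L a b := by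
      rw [hL0]
      rintro w (rfl | rfl | rfl) t ht
      · exact (S.mem_st.1 (hY ht)).1
      · exact (S.mem_st.1 (hY ht)).2
      · exact hz t ht
    have := Set.ncard_le_ncard h3
    rw [Set.ncard_eq_three.2 ⟨a, b, z, hab, Ne.symm hc.1, Ne.symm hc.2, rfl⟩] at this
    omega
  · exfalso
    have huniv : L a b = Set.univ := Set.eq_of_subset_of_ncard_le (Set.subset_univ _) (by
      rw [Set.ncard_univ, S.card, h])
    refine hne ((Subgroup.eq_bot_iff_forall Y).2 fun t ht => eq_of_smul_eq_smul (α := Ω) fun w => ?_)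
    have : w ∈ L a b := huniv ▸ Set.mem_univ w
    rw [hL0] at this
    rw [one_smul]; exact this t ht

omit [FaithfulSMul G Ω] in
theorem card_stab {a b : Ω} (hab : a ≠ b) :
    Nat.card (stabilizer G a) = p ^ 2 * Nat.card (S.st a b) := by
  have e : orbit (stabilizer G a) b = {a}ᶜ := by
    ext y
    constructor
    · rintro ⟨g, rfl⟩ hy
      have hg : (g : G) • a = a := g.2
      exact hab (MulAction.injective (g : G) (hg.trans hy.symm))
    · intro hy
      obtain ⟨g, hg1, hg2⟩ := S.two a b a y hab (Ne.symm hy)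
      exact ⟨⟨g, hg1⟩, hg2⟩
  have h := natCard_orbit_mul_stabilizer (K := stabilizer G a) b
  rw [e, Nat.card_coe_set_eq, Set.ncard_compl, Set.ncard_singleton, S.card, Nat.add_sub_cancel] at h
  rw [← h]
  congr 1
  refine Nat.card_congr ⟨fun g => ⟨g.1.1, g.1.2, g.2⟩, fun g => ⟨⟨g.1, g.2.1⟩, g.2.2⟩,
    fun _ => rfl, fun _ => rfl⟩

omit [FaithfulSMul G Ω] in
theorem sylow_orbit {a b : Ω} (hab : a ≠ b) (Q : Subgroup G) (hQ : IsPGroup p Q) (hQle : Q ≤ S.st a b)
    (hmax : ∀ R : Subgroup G, R ≤ S.st a b → IsPGroup p R → Q ≤ R → R = Q) :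
    ∃ P : Subgroup G, IsPGroup p P ∧ P ≤ stabilizer G a ∧ Q ≤ P ∧ P ⊓ S.st a b = Q ∧
      Nat.card P = p ^ 2 * Nat.card Q ∧ ∀ y, y ≠ a → ∃ g ∈ P, g • b = y := by
  haveI := Fact.mk S.hp
  have hQ' : IsPGroup p (Q.subgroupOf (stabilizer G a)) :=
    hQ.comap_of_injective _ Subtype.coe_injective
  obtain ⟨P0, hP0⟩ := hQ'.exists_le_sylow
  refine ⟨(P0 : Subgroup (stabilizer G a)).map (stabilizer G a).subtype, P0.2.map _,
    Subgroup.map_subtype_le _, ?_, ?_⟩
  · intro q hq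
    exact ⟨⟨q, (hQle hq).1⟩, hP0 hq, rfl⟩
  set P := (P0 : Subgroup (stabilizer G a)).map (stabilizer G a).subtype with hP
  have hPp : IsPGroup p P := P0.2.map _
  have hPle : P ≤ stabilizer G a := Subgroup.map_subtype_le _
  have hQP : Q ≤ P := fun q hq => ⟨⟨q, (hQle hq).1⟩, hP0 hq, rfl⟩
  have hint : P ⊓ S.st a b = Q :=
    hmax _ inf_le_right (hPp.to_le inf_le_left) (le_inf hQP hQle)
  have hfix : Nat.card (stabilizer P b) = Nat.card Q := by
    rw [← hint]
    exact Nat.card_congr ⟨fun g => ⟨g.1.1, g.1.2, hPle g.1.2, g.2⟩, fun g => ⟨⟨g.1, g.2.1⟩, g.2.2.2⟩,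
      fun _ => rfl, fun _ => rfl⟩
  have hPcard : Nat.card P = Nat.card (P0 : Subgroup (stabilizer G a)) :=
    (Nat.card_congr ((P0 : Subgroup (stabilizer G a)).equivMapOfInjective _
      Subtype.coe_injective).toEquiv).symm
  have hdiv : Nat.card P = p ^ 2 * Nat.card Q := by
    rw [hPcard, P0.card_eq_multiplicity, S.card_stab hab,
      Nat.factorization_mul (pow_ne_zero _ S.hp.ne_zero) Nat.card_pos.ne', Finsupp.add_apply,
      Nat.Prime.factorization_pow S.hp, Finsupp.single_eq_same, pow_add]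
    congr 1
    obtain ⟨n, hn⟩ := hQ.exists_card_eq
    rw [hn]
    congr 1
    refine le_antisymm ?_ ?_
    · obtain ⟨R, hR⟩ := (hQ.comap_of_injective (S.st a b).subtype Subtype.coe_injective).exists_le_sylow
      have hRQ : (R : Subgroup (S.st a b)).map (S.st a b).subtype = Q :=
        hmax _ (Subgroup.map_subtype_le _) (R.2.map _) fun q hq => ⟨⟨q, hQle hq⟩, hR hq, rfl⟩
      have := Nat.card_congr ((R : Subgroup (S.st a b)).equivMapOfInjective _
        (S.st a b).subtype_injective).toEquiv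
      rw [hRQ, R.card_eq_multiplicity, hn] at this
      exact (Nat.pow_le_pow_iff_right S.hp.one_lt).1 this.le
    · rw [← Nat.Prime.pow_dvd_iff_le_factorization S.hp Nat.card_pos.ne', ← hn]
      exact Subgroup.card_dvd_of_le hQle
  refine ⟨hint, hdiv, ?_⟩
  have h := natCard_orbit_mul_stabilizer (K := P) b
  rw [hfix, hdiv] at h
  have horb : Nat.card (orbit P b) = p ^ 2 := mul_right_cancel₀ Nat.card_pos.ne' h
  have hsub : orbit P b ⊆ {a}ᶜ := by
    rintro y ⟨g, rfl⟩ hy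
    have hg : (g : G) • a = a := hPle g.2
    exact hab (MulAction.injective (g : G) (hg.trans hy.symm))
  have heq : orbit P b = {a}ᶜ := Set.eq_of_subset_of_ncard_le hsub (by
    rw [Set.ncard_compl, Set.ncard_singleton, S.card, Nat.add_sub_cancel, ← Nat.card_coe_set_eq, horb])
  intro y hy
  obtain ⟨g, hg⟩ := (show y ∈ orbit P b from heq ▸ hy)
  exact ⟨g, g.2, hg⟩

theorem sylow_fix {a b : Ω} (hab : a ≠ b) (Q : Subgroup G) (hQ : IsPGroup p Q) (hQle : Q ≤ S.st a b)
    (hmax : ∀ R : Subgroup G, R ≤ S.st a b → IsPGroup p R → Q ≤ R → R = Q) (hne : Q ≠ ⊥) :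
    {z | ∀ q ∈ Q, q • z = z} = insert a (S.Δ a b) := by
  haveI := Fact.mk S.hp
  obtain ⟨P, hP, hPa, hQP, hint, hcard, htr⟩ := S.sylow_orbit hab Q hQ hQle hmax
  have hblock : S.Δ a b ⊆ {z | ∀ q ∈ Q, q • z = z} := by
    intro y hy q hq
    by_cases hyb : y = b
    · rw [hyb]; exact (S.mem_st.1 (hQle hq)).2
    have hsub : orbit Q y ⊆ S.Δ a b \ {b} := by
      rintro w ⟨r, rfl⟩
      have hr := S.mem_st.1 (hQle r.2)
      refine ⟨?_, fun e => hyb (MulAction.injective (r : G) (e.trans hr.2.symm))⟩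
      have := S.smul (r : G) hy
      rwa [hr.1, hr.2] at this
    obtain ⟨n, hn⟩ := hQ.card_orbit y
    have hle := Set.ncard_le_ncard hsub
    rw [← Nat.card_coe_set_eq, hn, Set.ncard_diff_singleton_of_mem (S.mem hab), S.ncard hab] at hle
    have hn0 : n = 0 := by
      by_contra h0
      have : p ≤ p ^ n := Nat.le_self_pow h0 p
      have := S.hp.two_le
      omega
    rw [hn0, pow_zero] at hn
    haveI := (Nat.card_eq_one_iff_unique.1 hn).1
    exact congrArg Subtype.val (Subsingleton.elim (⟨q • y, ⟨⟨q, hq⟩, rfl⟩⟩ : orbit Q y) ⟨y, mem_orbit_self y⟩)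
  let N : Subgroup G := P ⊓ Subgroup.normalizer (Q : Set G)
  have hsub : {z | ∀ q ∈ Q, q • z = z} \ {a} ⊆ orbit N b := by
    rintro y ⟨hy, hya⟩
    obtain ⟨g, hg, rfl⟩ := htr y hya
    have hin : ∀ q ∈ Q, g⁻¹ * q * g ∈ Q := by
      intro q hq
      rw [← hint]
      refine ⟨P.mul_mem (P.mul_mem (P.inv_mem hg) (hQP hq)) hg, ?_, ?_⟩
      · show (g⁻¹ * q * g) • a = a
        rw [mul_smul, mul_smul, show g • a = a from hPa hg, (S.mem_st.1 (hQle hq)).1]
        exact eq_inv_smul_iff.2 (hPa hg) |>.symm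
      · show (g⁻¹ * q * g) • b = b
        rw [mul_smul, mul_smul, hy q hq, inv_smul_smul]
    have hgN : g⁻¹ ∈ Subgroup.normalizer (Q : Set G) := by
      rw [Subgroup.mem_normalizer_iff]
      intro q
      rw [inv_inv]
      refine ⟨hin q, fun h => ?_⟩
      let f : Q → Q := fun t => ⟨_, hin t t.2⟩
      have hf : Function.Injective f := fun t t' e => by
        have := congrArg Subtype.val e
        simp only [f] at this
        exact Subtype.ext (mul_left_cancel (mul_right_cancel this))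
      obtain ⟨t, ht⟩ := (Finite.injective_iff_surjective.1 hf) ⟨_, h⟩
      have := congrArg Subtype.val ht
      simp only [f] at this
      exact mul_left_cancel (mul_right_cancel this) ▸ t.2
    exact ⟨⟨g, hg, inv_inv g ▸ Subgroup.inv_mem _ hgN⟩, rfl⟩
  have hNcard : (orbit N b).ncard ≤ p := by
    have h := natCard_orbit_mul_stabilizer (K := N) b
    have hst : Nat.card (stabilizer N b) = Nat.card Q := by
      refine Nat.card_congr ⟨fun g => ⟨g.1.1, ?_⟩, fun g => ⟨⟨g.1, hQP g.2, ?_⟩, ?_⟩,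
        fun _ => rfl, fun _ => rfl⟩
      · rw [← hint]; exact ⟨g.1.2.1, hPa g.1.2.1, g.2⟩
      · exact Subgroup.le_normalizer g.2
      · exact (S.mem_st.1 (hQle g.2)).2
    have hdvd : Nat.card N ∣ Nat.card P := Subgroup.card_dvd_of_le inf_le_left
    rw [← h, hst, hcard, Nat.mul_dvd_mul_iff_right Nat.card_pos, Nat.card_coe_set_eq] at hdvd
    obtain ⟨i, hi, hi'⟩ := (Nat.dvd_prime_pow S.hp).1 hdvd
    rw [hi']
    rcases Nat.lt_or_ge i 2 with h2 | h2
    · calc p ^ i ≤ p ^ 1 := Nat.pow_le_pow_right S.hp.pos (by omega)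
        _ = p := pow_one p
    exfalso
    have hPN : P ≤ Subgroup.normalizer (Q : Set G) := by
      have hle : Nat.card P ≤ Nat.card N := by
        rw [hcard, ← h, hst, Nat.card_coe_set_eq, hi', show i = 2 by omega]
      exact (Subgroup.eq_of_le_of_card_ge (inf_le_left : N ≤ P) hle) ▸ inf_le_right
    refine hne ((Subgroup.eq_bot_iff_forall Q).2 fun q hq => eq_of_smul_eq_smul (α := Ω) fun y => ?_)
    rw [one_smul]
    by_cases hya : y = a
    · rw [hya]; exact (S.mem_st.1 (hQle hq)).1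
    obtain ⟨g, hg, rfl⟩ := htr y hya
    have := (Subgroup.mem_normalizer_iff'.1 (hPN hg) (g⁻¹ * q)).2 (by rw [mul_inv_cancel_left]; exact hq)
    have e := (S.mem_st.1 (hQle this)).2
    rwa [mul_smul, mul_smul, inv_smul_eq_iff] at e
  refine (Set.eq_of_subset_of_ncard_le ?_ ?_).symm
  · exact Set.insert_subset (fun q hq => (S.mem_st.1 (hQle hq)).1) hblock
  · rw [Set.ncard_insert_of_notMem (fun h => S.ne h rfl), S.ncard hab]
    calc _ ≤ ({z | ∀ q ∈ Q, q • z = z} \ {a}).ncard + ({a} : Set Ω).ncard := Set.ncard_le_ncard_diff_add_ncard _ _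
      _ ≤ _ := by
        have := (Set.ncard_le_ncard hsub).trans hNcard
        rw [Set.ncard_singleton]; omega

theorem not_dvd_card_st {a b : Ω} (hab : a ≠ b) : ¬ p ∣ Nat.card (S.st a b) := by
  haveI := Fact.mk S.hp
  intro hdvd
  obtain ⟨R⟩ : Nonempty (Sylow p (S.st a b)) := inferInstance
  set Q := (R : Subgroup (S.st a b)).map (S.st a b).subtype with hQ
  have hQle : Q ≤ S.st a b := Subgroup.map_subtype_le _
  have hmax : ∀ T : Subgroup G, T ≤ S.st a b → IsPGroup p T → Q ≤ T → T = Q := by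
    intro T hT hTp hQT
    have hR : (R : Subgroup (S.st a b)) ≤ T.subgroupOf (S.st a b) := fun x hx => hQT ⟨x, hx, rfl⟩
    rw [hQ, ← R.3 (hTp.comap_of_injective (S.st a b).subtype (S.st a b).subtype_injective) hR,
      ← Subgroup.subgroupOf, Subgroup.subgroupOf_map_subtype, inf_eq_left.2 hT]
  have hne : Q ≠ ⊥ := by
    intro e
    rw [hQ, Subgroup.map_eq_bot_iff_of_injective _ (S.st a b).subtype_injective] at e
    exact R.ne_bot_of_dvd_card hdvd e
  have h1 := S.sylow_fix hab Q (R.2.map _) hQle hmax hne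
  have hst : S.st b a = S.st a b := inf_comm _ _
  have h2 := S.sylow_fix (Ne.symm hab) Q (R.2.map _) (hst.symm ▸ hQle) (hst.symm ▸ hmax) hne
  exact S.not_sym hab (h1.symm.trans h2)

end Sys

end Cfsg.Agent.PSqPlusOne
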