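import Mathlib

/-! A subset of `ZMod p` whose convolution power of order `p` is a point mass plus a constant is a
point or the complement of a point. -/

set_option autoImplicit false

namespace Cfsg.Agent.PSqPlusOne

open Finset Polynomial

variable {p : ℕ} [Fact p.Prime]

/-- The indicator of a set with rational values. -/
def ind (A : Finset (ZMod p)) (d : ZMod p) : ℚ := if d ∈ A then 1 else 0

/-- Convolution powers of the indicator of `A`. -/
def convPow (A : Finset (ZMod p)) : ℕ → ZMod p → ℚ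
  | 0 => fun d => if d = 0 then 1 else 0
  | j + 1 => fun d => ∑ t, convPow A j t * ind A (d - t)

theorem eq_of_sum_root {K : Type*} [Field K] [CharZero K] {ζ : K} (hζ : IsPrimitiveRoot ζ p)
    (c : ZMod p → ℚ) (h : ∑ d, (c d : K) * ζ ^ d.val = 0) (d d' : ZMod p) : c d = c d' := by
  classical
  have hp := (Fact.out : p.Prime)
  let q : ℚ[X] := ∑ d : ZMod p, C (c d) * X ^ d.val
  have hq : aeval ζ q = 0 := by simpa [q] using h
  have hcoef : ∀ i < p, q.coeff i = c (i : ZMod p) := by
    intro i hi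
    simp only [q, finset_sum_coeff, coeff_C_mul_X_pow]
    rw [Finset.sum_eq_single (i : ZMod p)]
    · rw [if_pos (ZMod.val_natCast_of_lt hi).symm]
    · intro b _ hb
      rw [if_neg]
      exact fun e => hb (by rw [e, ZMod.natCast_zmod_val])
    · exact fun h' => absurd (Finset.mem_univ _) h'
  have hmin : minpoly ℚ ζ = cyclotomic p ℚ := (cyclotomic_eq_minpoly_rat hζ hp.pos).symm
  have hdvd : cyclotomic p ℚ ∣ q := hmin ▸ minpoly.dvd ℚ ζ hq
  obtain ⟨r, hr⟩ := hdvd
  have hdeg : q.natDegree ≤ p - 1 := by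
    refine natDegree_sum_le_of_forall_le _ _ fun d _ => ?_
    exact (natDegree_C_mul_X_pow_le _ _).trans (Nat.le_sub_one_of_lt (ZMod.val_lt d))
  obtain ⟨r0, rfl⟩ : ∃ r0, r = C r0 := by
    by_cases h0 : r = 0
    · exact ⟨0, by simp [h0]⟩
    refine ⟨r.coeff 0, eq_C_of_natDegree_eq_zero ?_⟩
    have := congrArg natDegree hr
    rw [natDegree_mul (cyclotomic_ne_zero p ℚ) h0, natDegree_cyclotomic, Nat.totient_prime hp] at this
    omega
  have key : ∀ i < p, q.coeff i = r0 := by
    intro i hi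
    rw [hr, cyclotomic_prime ℚ p, coeff_mul_C, finset_sum_coeff]
    simp [coeff_X_pow, hi]
  have := key d.val (ZMod.val_lt d)
  have := key d'.val (ZMod.val_lt d')
  have := hcoef d.val (ZMod.val_lt d)
  have := hcoef d'.val (ZMod.val_lt d')
  simp_all

theorem card_cases_of_convPow {A : Finset (ZMod p)} (hp2 : p ≠ 2) (hne : A.Nonempty) (hA : A ≠ univ)
    (i0 : ZMod p) (α β : ℚ) (h : ∀ d, convPow A p d = (if d = i0 then α else 0) + β) :
    ∃ l, A = {l} ∨ A = univ.erase l := by
  classical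
  have hp := (Fact.out : p.Prime)
  haveI : NeZero p := ⟨hp.ne_zero⟩
  haveI : IsCyclotomicExtension {p} ℚ (CyclotomicField p ℚ) :=
    CyclotomicField.isCyclotomicExtension p ℚ
  let ζ : CyclotomicField p ℚ := IsCyclotomicExtension.zeta p ℚ (CyclotomicField p ℚ)
  have hζ : IsPrimitiveRoot ζ p := IsCyclotomicExtension.zeta_spec p ℚ (CyclotomicField p ℚ)
  have hζp : ζ ^ p = 1 := hζ.pow_eq_one
  have hadd : ∀ x y : ZMod p, ζ ^ (x + y).val = ζ ^ x.val * ζ ^ y.val := by
    intro x y
    rw [← pow_add, ZMod.val_add, ← pow_mod_orderOf ζ (x.val + y.val), ← hζ.eq_orderOf]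
  let φ : (ZMod p → ℚ) → (CyclotomicField p ℚ) := fun f => ∑ d, (f d : (CyclotomicField p ℚ)) * ζ ^ d.val
  have hsum : ∑ d : ZMod p, ζ ^ d.val = 0 := by
    have h1 := hζ.geom_sum_eq_zero hp.one_lt
    rw [← h1]
    refine Finset.sum_bij (fun d _ => d.val) (fun d _ => Finset.mem_range.2 (ZMod.val_lt d))
      (fun a _ b _ e => ZMod.val_injective p e) (fun i hi => ⟨(i : ZMod p), Finset.mem_univ _,
        ZMod.val_natCast_of_lt (Finset.mem_range.1 hi)⟩) (fun _ _ => rfl)
  set a := φ (ind A) with ha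
  have hpow : ∀ j, φ (convPow A j) = a ^ j := by
    intro j
    induction j with
    | zero => simp [φ, convPow, apply_ite (fun x : ℚ => (x : (CyclotomicField p ℚ))), ite_mul]
    | succ j ih =>
      rw [pow_succ, ← ih]
      simp only [φ, convPow, ha, Rat.cast_sum, Rat.cast_mul]
      rw [Finset.sum_mul_sum]
      simp only [Finset.sum_mul]
      rw [Finset.sum_comm]
      refine Finset.sum_congr rfl fun t _ => ?_
      refine Fintype.sum_equiv (Equiv.subRight t) _ _ fun d => ?_
      simp only [Equiv.subRight_apply]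
      conv_lhs => rw [show d = t + (d - t) by abel, hadd]
      rw [show t + (d - t) - t = d - t by abel]
      ring
  have hp' : a ^ p = (α : (CyclotomicField p ℚ)) * ζ ^ i0.val := by
    rw [← hpow]
    simp only [φ]
    simp only [h, Rat.cast_add, add_mul, Finset.sum_add_distrib, apply_ite (fun x : ℚ => (x : (CyclotomicField p ℚ))),
      Rat.cast_zero, ite_mul, zero_mul, Finset.sum_ite_eq', Finset.mem_univ, if_true]
    rw [← Finset.mul_sum, hsum, mul_zero, add_zero]
  have hindval : ∀ d, ind A d = 1 ↔ d ∈ A := fun d => by unfold ind; split <;> simp_all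
  have ha0 : a ≠ 0 := by
    intro e
    obtain ⟨x, hx⟩ := hne
    refine hA (Finset.eq_univ_iff_forall.2 fun d => (hindval d).1 ?_)
    rw [eq_of_sum_root hζ (ind A) e d x]
    exact (hindval x).2 hx
  have hα : α ≠ 0 := by
    intro e
    rw [e] at hp'
    simp only [Rat.cast_zero, zero_mul] at hp'
    exact ha0 (eq_zero_of_pow_eq_zero hp')
  have hN : (Algebra.norm ℚ a) ^ p = α ^ (p - 1) := by
    have := congrArg (Algebra.norm ℚ) hp'
    rw [map_pow, map_mul, map_pow, hζ.norm_eq_one hp2 (cyclotomic.irreducible_rat hp.pos),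
      one_pow, mul_one, show (α : (CyclotomicField p ℚ)) = algebraMap ℚ (CyclotomicField p ℚ) α from (eq_ratCast _ α).symm,
      Algebra.norm_algebraMap, IsCyclotomicExtension.finrank (n := p) (CyclotomicField p ℚ) (cyclotomic.irreducible_rat hp.pos),
      Nat.totient_prime hp] at this
    exact this
  set r := α / Algebra.norm ℚ a with hr
  have hr' : r ^ p = α := by
    rw [hr, div_pow, hN, div_eq_iff (pow_ne_zero _ hα), ← pow_succ', Nat.sub_add_cancel hp.pos]
  have hr0 : (r : (CyclotomicField p ℚ)) ≠ 0 := by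
    rw [Rat.cast_ne_zero]
    intro e
    rw [e, zero_pow hp.ne_zero] at hr'
    exact hα hr'.symm
  have hx : (a / r) ^ p = ζ ^ i0.val := by
    rw [div_pow, hp', ← Rat.cast_pow, hr', mul_div_cancel_left₀ _ (by exact_mod_cast hα)]
  obtain ⟨l, _, hl⟩ := hζ.exists_pow_or_neg_mul_pow_of_isOfFinOrder (hp.odd_of_ne_two hp2)
    (isOfFinOrder_iff_pow_eq_one.2 ⟨p * p, Nat.mul_pos hp.pos hp.pos, by
      rw [pow_mul, hx, ← pow_mul, mul_comm, pow_mul, hζp, one_pow]⟩ : IsOfFinOrder (a / r))
  obtain ⟨s, hs⟩ : ∃ s : ℚ, a = (s : (CyclotomicField p ℚ)) * ζ ^ l := by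
    rcases hl with e | e
    · exact ⟨r, by rw [div_eq_iff hr0] at e; rw [e]; ring⟩
    · exact ⟨-r, by rw [div_eq_iff hr0] at e; rw [e, Rat.cast_neg]; ring⟩
  have hl' : ζ ^ l = ζ ^ (l : ZMod p).val := by
    rw [ZMod.val_natCast, ← pow_mod_orderOf ζ l, ← hζ.eq_orderOf]
  have hc := eq_of_sum_root hζ (fun d => ind A d - if d = (l : ZMod p) then s else 0) (by
    simp only [Rat.cast_sub, sub_mul, Finset.sum_sub_distrib, apply_ite (fun x : ℚ => (x : (CyclotomicField p ℚ))),
      Rat.cast_zero, ite_mul, zero_mul, Finset.sum_ite_eq', Finset.mem_univ, if_true]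
    rw [sub_eq_zero, ← hl', ← hs])
  refine ⟨(l : ZMod p), ?_⟩
  have hoff : ∀ d d', d ≠ (l : ZMod p) → d' ≠ (l : ZMod p) → (d ∈ A ↔ d' ∈ A) := by
    intro d d' h1 h2
    have := hc d d'
    simp only [h1, h2, if_false, sub_zero] at this
    rw [← hindval, ← hindval, this]
  by_cases hd : ∃ d ∈ A, d ≠ (l : ZMod p)
  · right
    obtain ⟨d, hdA, hdl⟩ := hd
    have hsub : univ.erase (l : ZMod p) ⊆ A := fun d' hd' => (hoff d d' hdl (Finset.mem_erase.1 hd').1).1 hdA
    refine Finset.Subset.antisymm (fun d' hd' => Finset.mem_erase.2 ⟨?_, Finset.mem_univ _⟩) hsub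
    intro e
    refine hA (Finset.eq_univ_iff_forall.2 fun x => ?_)
    by_cases hx : x = (l : ZMod p)
    · exact hx ▸ e ▸ hd'
    · exact hsub (Finset.mem_erase.2 ⟨hx, Finset.mem_univ _⟩)
  · left
    push Not at hd
    exact Finset.eq_singleton_iff_nonempty_unique_mem.2 ⟨hne, hd⟩

end Cfsg.Agent.PSqPlusOne
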