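import Cfsg.Agent.PSqPlusOne.Affine

/-! The contradiction for odd `p` and the order for `p = 2`. -/

set_option autoImplicit false

namespace Cfsg.Agent.PSqPlusOne

open MulAction
open scoped Pointwise

variable {G Ω : Type*} [Group G] [MulAction G Ω] [Finite G] [Finite Ω] [FaithfulSMul G Ω] {p : ℕ}
  (S : Sys G Ω p)

namespace Sys

theorem comm_mem_X {a b : Ω} (hab : a ≠ b) (htr : ¬ S.Tr a b) {g h : G} (hg : g ∈ S.st a b)
    (hh : h ∈ S.st a b) : g * h * g⁻¹ * h⁻¹ ∈ S.X a b := by
  obtain ⟨F⟩ := S.exists_frame hab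
  obtain ⟨m, hm⟩ := S.normZ hab htr F (S.mem_st.1 hg).1 ((S.mem_st.1 hg).2.symm ▸ S.mem hab)
  obtain ⟨n, hn⟩ := S.normZ hab htr F (S.mem_st.1 hh).1 ((S.mem_st.1 hh).2.symm ▸ S.mem hab)
  have e1 : g * h * F.z * (g * h)⁻¹ = F.z ^ (m.val * n.val) := by
    rw [show g * h * F.z * (g * h)⁻¹ = g * (h * F.z * h⁻¹) * g⁻¹ by group, hn, ← conj_pow, hm, ← pow_mul]
  have e2 : h * g * F.z * (h * g)⁻¹ = F.z ^ (m.val * n.val) := by
    rw [show h * g * F.z * (h * g)⁻¹ = h * (g * F.z * g⁻¹) * h⁻¹ by group, hm, ← conj_pow, hn, ← pow_mul,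
      mul_comm]
  have e : g * h * g⁻¹ * h⁻¹ = g * h * (h * g)⁻¹ := by group
  refine S.mem_X_of_commute hab F (e ▸ Subgroup.mul_mem _ (Subgroup.mul_mem _ hg hh)
    (Subgroup.inv_mem _ (Subgroup.mul_mem _ hh hg))) ?_
  rw [e]
  have h3 : (h * g)⁻¹ * (g * h) * F.z * ((h * g)⁻¹ * (g * h))⁻¹ = F.z := by
    rw [show (h * g)⁻¹ * (g * h) * F.z * ((h * g)⁻¹ * (g * h))⁻¹ =
      (h * g)⁻¹ * (g * h * F.z * (g * h)⁻¹) * (h * g) by group, e1, ← e2]
    group
  -- transport along the conjugation by `h * g`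
  have h4 : Commute ((h * g)⁻¹ * (g * h)) F.z := mul_inv_eq_iff_eq_mul.1 h3
  have h5 : g * h * (h * g)⁻¹ = (h * g) * ((h * g)⁻¹ * (g * h)) * (h * g)⁻¹ := by group
  show g * h * (h * g)⁻¹ * F.z = F.z * (g * h * (h * g)⁻¹)
  have h7 : Commute ((h * g) * ((h * g)⁻¹ * (g * h)) * (h * g)⁻¹) (F.z ^ (m.val * n.val)) := by
    rw [← e2]
    exact h4.map (MulAut.conj (h * g)).toMonoidHom
  rw [← h5] at h7
  -- `F.z` is a power of its conjugate
  obtain ⟨j, hj⟩ : ∃ j : ℕ, F.z = (F.z ^ (m.val * n.val)) ^ j := by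
    haveI := Fact.mk S.hp
    have ho : orderOf (F.z ^ (m.val * n.val)) = p := by
      rw [← e2]
      exact (orderOf_injective (MulAut.conj (h * g)).toMonoidHom (MulAut.conj (h * g)).injective F.z).trans
        F.z_order
    have hz : Subgroup.zpowers (F.z ^ (m.val * n.val)) = Subgroup.zpowers F.z :=
      Subgroup.eq_of_le_of_card_ge (Subgroup.zpowers_le.2 (Subgroup.npow_mem_zpowers _ _))
        (by rw [Nat.card_zpowers, Nat.card_zpowers, ho, F.z_order])
    have := hz.symm ▸ Subgroup.mem_zpowers F.z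
    obtain ⟨j, hj⟩ := (IsOfFinOrder.mem_powers_iff_mem_zpowers (isOfFinOrder_of_finite _)).2 this
    exact ⟨j, hj.symm⟩
  have h8 := h7.pow_right j
  rw [← hj] at h8
  exact h8

theorem commute_of_conj {a b : Ω} (hab : a ≠ b) (htr : ¬ S.Tr a b) (F : S.Frame a b) {t g : G}
    (htK : t ∈ S.K a) (ht : t ∈ S.st a b) (hg : g ∈ F.P) (hfix : t • g • b = g • b) :
    Commute g t := by
  obtain ⟨m, hm⟩ := S.normZ hab htr F (S.mem_st.1 ht).1 ((S.mem_st.1 ht).2.symm ▸ S.mem hab)
  have hga : g • a = a := F.le hg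
  have hgz : Commute g F.z := F.comm g hg _ F.z_mem
  set t' := g⁻¹ * t * g with ht'
  have ht'K : t' ∈ S.K a := by
    have := S.K_conj' g⁻¹ (inv_smul_eq_iff.2 hga.symm) htK
    rwa [inv_inv] at this
  have ht'st : t' ∈ S.st a b := by
    refine S.mem_st.2 ⟨ht'K.1, ?_⟩
    rw [ht', mul_smul, mul_smul, hfix, inv_smul_smul]
  have e : t' * F.z * t'⁻¹ = F.z ^ m.val := by
    rw [show t' * F.z * t'⁻¹ = g⁻¹ * (t * (g * F.z * g⁻¹) * t⁻¹) * g by rw [ht']; group,
      show g * F.z * g⁻¹ = F.z from mul_inv_eq_iff_eq_mul.2 hgz, hm]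
    have := (hgz.pow_right m.val).inv_left
    rw [this.eq, inv_mul_cancel_right]
  have hc : Commute (t⁻¹ * t') F.z := by
    refine mul_inv_eq_iff_eq_mul.1 ?_
    rw [show t⁻¹ * t' * F.z * (t⁻¹ * t')⁻¹ = t⁻¹ * (t' * F.z * t'⁻¹) * t by group, e, ← hm]
    group
  have hmem : t⁻¹ * t' ∈ S.st a b := Subgroup.mul_mem _ (Subgroup.inv_mem _ ht) ht'st
  have := S.K_inf_X hab (Subgroup.mul_mem _ (Subgroup.inv_mem _ htK) ht'K)
    (S.mem_X_of_commute hab F hmem hc)
  have h2 : t' = t := (inv_mul_eq_one.1 this).symm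
  show g * t = t * g
  calc g * t = g * t' := by rw [h2]
    _ = t * g := by rw [ht']; group

theorem false_of_X_ne_bot {a b : Ω} (hab : a ≠ b) (htr : ¬ S.Tr a b) {t : G}
    (ht : t ∈ S.X b a) (ht1 : t ≠ 1) : False := by
  classical
  haveI := Fact.mk S.hp
  obtain ⟨F⟩ := S.exists_frame hab
  have hba : b ≠ a := Ne.symm hab
  have hswap : ∀ {g : G}, g ∈ S.st a b → g ∈ S.st b a :=
    fun hg => S.mem_st.2 ⟨(S.mem_st.1 hg).2, (S.mem_st.1 hg).1⟩
  have htba := S.mem_st.1 (S.X_le_st hba ht)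
  obtain ⟨htb, hta⟩ := htba
  have htst : t ∈ S.st a b := S.mem_st.2 ⟨hta, htb⟩
  have htr' : ¬ S.Tr b a := fun h => htr (S.tr_symm hba h)
  have hH : ∀ u ∈ S.st a b, ∀ v ∈ S.st a b, Commute u v := by
    intro u hu v hv
    have := S.X_inf_X hab (S.comm_mem_X hab htr hu hv) (S.comm_mem_X hba htr' (hswap hu) (hswap hv))
    rwa [mul_inv_eq_one, mul_inv_eq_iff_eq_mul] at this
  obtain ⟨c, hc, hca, hcΔ⟩ : ∃ c ∈ S.Δ b a, c ≠ a ∧ c ∉ S.Δ a b := by
    by_contra! hc
    refine S.not_sym hab (Set.eq_of_subset_of_ncard_le ?_ ?_).symm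
    · rintro x (rfl | hx)
      · exact Set.mem_insert_of_mem _ (S.mem hab)
      · by_cases hxa : x = a
        · exact Or.inl hxa
        · exact Or.inr (hc x hx hxa)
    · rw [Set.ncard_insert_of_notMem (fun h => S.ne h rfl), S.ncard hab,
        Set.ncard_insert_of_notMem (fun h => S.ne h rfl), S.ncard hba]
  obtain ⟨w, hw, rfl⟩ := F.trans b c hba hca
  have hwa : w • a = a := F.le hw
  have htc : t • w • b = w • b := ht.2 _ hc
  let B : Subgroup G := stabilizer G a ⊓ stabilizer G (S.Δ a b)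
  have hBmem : ∀ g, g • a = a → (g ∈ B ↔ g • b ∈ S.Δ a b) := by
    intro g hga
    refine ⟨fun h => ?_, fun h => ⟨hga, ?_⟩⟩
    · have h2 : g • S.Δ a b = S.Δ a b := h.2
      exact h2 ▸ Set.smul_mem_smul_set (S.mem hab)
    · show g • S.Δ a b = S.Δ a b
      rw [S.smul_set, hga, S.eq h]
  let C : Subgroup G :=
    { carrier := {g | g • a = a ∧ g * t * g⁻¹ * t⁻¹ ∈ S.K a}
      one_mem' := ⟨one_smul _ _, by simp [(S.K a).one_mem]⟩
      mul_mem' := by
        rintro u v ⟨hu, hu'⟩ ⟨hv, hv'⟩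
        refine ⟨by rw [mul_smul, hv, hu], ?_⟩
        rw [show u * v * t * (u * v)⁻¹ * t⁻¹ = u * (v * t * v⁻¹ * t⁻¹) * u⁻¹ * (u * t * u⁻¹ * t⁻¹) by group]
        exact Subgroup.mul_mem _ (S.K_conj' u hu hv') hu'
      inv_mem' := by
        rintro u ⟨hu, hu'⟩
        refine ⟨inv_smul_eq_iff.2 hu.symm, ?_⟩
        have := S.K_conj' u⁻¹ (inv_smul_eq_iff.2 hu.symm) (Subgroup.inv_mem _ hu')
        rwa [show u⁻¹ * (u * t * u⁻¹ * t⁻¹)⁻¹ * u⁻¹⁻¹ = u⁻¹ * t * u⁻¹⁻¹ * t⁻¹ by group] at this }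
  have hKC : ∀ k ∈ S.K a, k ∈ C := fun k hk => ⟨hk.1, by
    rw [show k * t * k⁻¹ * t⁻¹ = k * (t * k⁻¹ * t⁻¹) by group]
    exact Subgroup.mul_mem _ hk (S.K_conj' t hta (Subgroup.inv_mem _ hk))⟩
  have hstC : ∀ g ∈ S.st a b, g ∈ C := fun g hg => ⟨(S.mem_st.1 hg).1, by
    rw [(hH g hg t htst).eq, mul_inv_cancel_right, mul_inv_cancel]
    exact Subgroup.one_mem _⟩
  have hBC : ∀ g ∈ B, g ∈ C := by
    intro g hg
    obtain ⟨k, hk, -, hkb⟩ := F.exists_K hba ((hBmem g hg.1).1 hg)
    have hh : k⁻¹ * g ∈ S.st a b := S.mem_st.2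
      ⟨by rw [mul_smul, show g • a = a from hg.1, inv_smul_eq_iff, hk.1],
        by rw [mul_smul, ← hkb, inv_smul_smul]⟩
    have := C.mul_mem (hKC k hk) (hstC _ hh)
    rwa [mul_inv_cancel_left] at this
  have htB : t ∈ B := (hBmem t hta).2 (htb.symm ▸ S.mem hab)
  -- `t` lies in the block kernel
  have htK : t ∈ S.K a := by
    refine ⟨hta, fun y hy => ?_⟩
    obtain ⟨g, hg, rfl⟩ := F.trans b y hba hy
    have hga : g • a = a := F.le hg
    suffices h : g⁻¹ * t * g ∈ B by
      have h1 := (hBmem _ h.1).1 h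
      have h2 := S.smul g h1
      rwa [hga, mul_smul, mul_smul, smul_inv_smul] at h2
    by_cases hBB : ∀ x ∈ B, w * x * w⁻¹ ∈ B
    · -- `B` is normalised by `w`, hence by every element of `P`
      let N : Subgroup G := F.P ⊓ Subgroup.normalizer (B : Set G)
      have hN : F.P ≤ N := by
        have hwN : w ∈ N := by
          refine ⟨hw, ?_⟩
          show w ∈ Subgroup.normalizer (B : Set G)
          rw [Subgroup.mem_normalizer_iff]
          intro x
          refine ⟨hBB x, fun hx => ?_⟩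
          let f : B → B := fun u => ⟨_, hBB u u.2⟩
          have hf : Function.Injective f := fun u v e => by
            have := congrArg Subtype.val e
            simp only [f] at this
            exact Subtype.ext (mul_left_cancel (mul_right_cancel this))
          obtain ⟨u, hu⟩ := (Finite.injective_iff_surjective.1 hf) ⟨_, hx⟩
          have := congrArg Subtype.val hu
          simp only [f] at this
          exact mul_left_cancel (mul_right_cancel this) ▸ u.2
        have hzN : F.z ∈ N := by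
          refine ⟨F.z_mem, Subgroup.le_normalizer ?_⟩
          exact (hBmem _ F.z_K.1).2 (S.K_smul_mem F.z_K (S.mem hab))
        have hd : Nat.card N ∣ p ^ 2 := F.card_P ▸ Subgroup.card_dvd_of_le inf_le_left
        obtain ⟨i, hi, hi'⟩ := (Nat.dvd_prime_pow S.hp).1 hd
        rcases Nat.lt_or_ge i 2 with h | h
        · exfalso
          have hzle : Subgroup.zpowers F.z ≤ N := Subgroup.zpowers_le.2 hzN
          have hle : Nat.card N ≤ Nat.card (Subgroup.zpowers F.z) := by
            rw [Nat.card_zpowers, F.z_order, hi']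
            calc p ^ i ≤ p ^ 1 := Nat.pow_le_pow_right S.hp.pos (by omega)
              _ = p := pow_one p
          have := Subgroup.eq_of_le_of_card_ge hzle hle
          have hwK : w ∈ S.K a := Subgroup.zpowers_le.2 F.z_K (this ▸ hwN)
          exact hcΔ (S.K_smul_mem hwK (S.mem hab))
        · exact (Subgroup.eq_of_le_of_card_ge (inf_le_left : N ≤ F.P)
            (by rw [F.card_P, hi', show i = 2 by omega])).ge
      have := (Subgroup.mem_normalizer_iff.1 (hN (F.P.inv_mem hg)).2 t).1 htB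
      rwa [inv_inv] at this
    · push Not at hBB
      obtain ⟨x, hx, hxw⟩ := hBB
      have hxa : x • a = a := hx.1
      have hua : (w * x * w⁻¹) • a = a := by
        rw [mul_smul, mul_smul, inv_smul_eq_iff.2 hwa.symm, hxa, hwa]
      -- the conjugate of `x` also lies in `C`
      have huC : w * x * w⁻¹ ∈ C := by
        obtain ⟨k, hk, -, hkb⟩ := F.exists_K hba ((hBmem x hxa).1 hx)
        have hh : k⁻¹ * x ∈ S.st a b := S.mem_st.2
          ⟨by rw [mul_smul, hxa, inv_smul_eq_iff, hk.1], by rw [mul_smul, ← hkb, inv_smul_smul]⟩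
        have hwt : w⁻¹ * t * w ∈ S.st a b := S.mem_st.2
          ⟨by rw [mul_smul, mul_smul, hwa, hta, inv_smul_eq_iff, hwa],
            by rw [mul_smul, mul_smul, htc, inv_smul_smul]⟩
        have h1 : w * (k⁻¹ * x) * w⁻¹ ∈ C := by
          refine ⟨by rw [mul_smul, mul_smul, inv_smul_eq_iff.2 hwa.symm, (S.mem_st.1 hh).1, hwa], ?_⟩
          have := (hH _ hh _ hwt).eq
          rw [show w * (k⁻¹ * x) * w⁻¹ * t * (w * (k⁻¹ * x) * w⁻¹)⁻¹ * t⁻¹ =
            w * (k⁻¹ * x * (w⁻¹ * t * w)) * (k⁻¹ * x)⁻¹ * w⁻¹ * t⁻¹ by group, this,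
            show w * (w⁻¹ * t * w * (k⁻¹ * x)) * (k⁻¹ * x)⁻¹ * w⁻¹ * t⁻¹ = 1 by group]
          exact Subgroup.one_mem _
        have := C.mul_mem (hKC _ (S.K_conj' w hwa hk)) h1
        rwa [show w * k * w⁻¹ * (w * (k⁻¹ * x) * w⁻¹) = w * x * w⁻¹ by group] at this
      set u := w * x * w⁻¹ with hu
      have hsubC : C ≤ stabilizer G a := fun v hv => hv.1
      have horb : orbit C b = {a}ᶜ := by
        have hsub : orbit C b ⊆ {a}ᶜ := by
          rintro v ⟨m, rfl⟩ hv
          exact hab (MulAction.injective (m : G) ((hsubC m.2).trans hv.symm))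
        refine Set.eq_of_subset_of_ncard_le hsub ?_
        rw [Set.ncard_compl, Set.ncard_singleton, S.card, Nat.add_sub_cancel]
        have h1 := natCard_orbit_mul_stabilizer (K := C) b
        have h2 : Nat.card (stabilizer C b) = Nat.card (S.st a b) :=
          Nat.card_congr ⟨fun v => ⟨v.1.1, hsubC v.1.2, v.2⟩, fun v => ⟨⟨v.1, hstC v.1 v.2⟩, v.2.2⟩,
            fun _ => rfl, fun _ => rfl⟩
        have h3 : Nat.card C ∣ p ^ 2 * Nat.card (S.st a b) :=
          S.card_stab hab ▸ Subgroup.card_dvd_of_le hsubC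
        rw [← h1, h2, Nat.mul_dvd_mul_iff_right Nat.card_pos, Nat.card_coe_set_eq] at h3
        have hbig : p < (orbit C b).ncard := by
          rw [← S.ncard hab]
          refine Set.ncard_lt_ncard ⟨?_, fun h => ?_⟩
          · intro v hv
            obtain ⟨k, hk, -, hkb⟩ := F.exists_K hba hv
            exact ⟨⟨k, hKC k hk⟩, hkb⟩
          · exact hxw ((hBmem u hua).2 (h ⟨⟨u, huC⟩, rfl⟩))
        obtain ⟨i, hi, hi'⟩ := (Nat.dvd_prime_pow S.hp).1 h3
        interval_cases i
        · rw [pow_zero] at hi'; have := S.hp.two_le; omega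
        · rw [pow_one] at hi'; omega
        · omega
      obtain ⟨⟨m, hm⟩, hmb⟩ := (show g⁻¹ • b ∈ orbit C b from horb ▸ fun e => hab (by
        rw [Set.mem_singleton_iff, inv_smul_eq_iff, hga] at e; exact e.symm))
      have hgi : g⁻¹ ∈ C := by
        have hst : m⁻¹ * g⁻¹ ∈ S.st a b := S.mem_st.2
          ⟨by rw [mul_smul, inv_smul_eq_iff.2 hga.symm, inv_smul_eq_iff, show m • a = a from hm.1],
            by rw [mul_smul, inv_smul_eq_iff]; exact hmb.symm⟩
        have := C.mul_mem hm (hstC _ hst)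
        rwa [mul_inv_cancel_left] at this
      have h1 := hgi.2
      rw [inv_inv] at h1
      have hKB : ∀ k ∈ S.K a, k ∈ B := fun k hk => (hBmem k hk.1).2 (S.K_smul_mem hk (S.mem hab))
      have := B.mul_mem (hKB _ h1) htB
      rwa [inv_mul_cancel_right] at this
  refine S.no_transversal hab F {y | t • y = y} ?_ ?_ ?_
  · rintro v (rfl | hv)
    · exact htb
    · exact ht.2 v hv
  · intro hz
    exact ht1 (S.K_inf_X hab htK
      (S.fix_mem_X hab htr htst (S.K_smul_mem F.z_K (S.mem hab)) F.z_move hz))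
  · intro g hg hgb
    have hc := S.commute_of_conj hab htr F htK htst hg hgb
    ext v
    rw [Set.mem_smul_set_iff_inv_smul_mem, Set.mem_setOf_eq, Set.mem_setOf_eq, ← mul_smul,
      ← hc.inv_left.eq, mul_smul, smul_left_cancel_iff]

theorem exists_involution_data {a b : Ω} (hab : a ≠ b) (htr : ¬ S.Tr a b) (hX : S.X a b = ⊥)
    {t : G} (ht : t ∈ S.st a b) (ht2 : t * t = 1) (ht1 : t ≠ 1) :
    ∀ s ∈ S.st a b, s * s = 1 → s ≠ 1 → s = t := by
  classical
  haveI := Fact.mk S.hp
  haveI : NeZero p := ⟨S.hp.ne_zero⟩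
  obtain ⟨F⟩ := S.exists_frame hab
  have key : ∀ s ∈ S.st a b, s * s = 1 → s ≠ 1 → s * F.z * s⁻¹ = F.z⁻¹ := by
    intro s hs hs2 hs1
    obtain ⟨m, hm⟩ := S.normZ hab htr F (S.mem_st.1 hs).1 ((S.mem_st.1 hs).2.symm ▸ S.mem hab)
    have h1 : F.z ^ (m.val * m.val) = F.z ^ 1 := by
      rw [pow_mul, ← hm, conj_pow, ← hm, pow_one,
        show s * (s * F.z * s⁻¹) * s⁻¹ = s * s * F.z * (s * s)⁻¹ by group, hs2, one_mul, inv_one, mul_one]
    rw [pow_eq_pow_iff_modEq, F.z_order, ← ZMod.natCast_eq_natCast_iff, Nat.cast_mul, Nat.cast_one,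
      ZMod.natCast_zmod_val, mul_self_eq_one_iff] at h1
    rcases h1 with h | h
    · exfalso
      rw [h, ZMod.val_one, pow_one, mul_inv_eq_iff_eq_mul] at hm
      have := S.mem_X_of_commute hab F hs hm
      rw [hX, Subgroup.mem_bot] at this
      exact hs1 this
    · rw [hm, eq_inv_iff_mul_eq_one, ← pow_succ, ← orderOf_dvd_iff_pow_eq_one, F.z_order,
        ← ZMod.natCast_eq_zero_iff, Nat.cast_succ, ZMod.natCast_zmod_val, h, neg_add_cancel]
  intro s hs hs2 hs1
  have h1 := key s hs hs2 hs1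
  have h2 := key t ht ht2 ht1
  have hc : Commute (t⁻¹ * s) F.z := by
    refine mul_inv_eq_iff_eq_mul.1 ?_
    rw [show t⁻¹ * s * F.z * (t⁻¹ * s)⁻¹ = t⁻¹ * (s * F.z * s⁻¹) * t by group, h1, ← h2]
    group
  have := S.mem_X_of_commute hab F (Subgroup.mul_mem _ (Subgroup.inv_mem _ ht) hs) hc
  rw [hX, Subgroup.mem_bot, inv_mul_eq_one] at this
  exact this.symm

include S in
theorem false_of_semiregular {a b : Ω} (hab : a ≠ b) (hp2 : p ≠ 2) (htr : ¬ S.Tr a b)
    (hX : S.X a b = ⊥) : False := by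
  classical
  haveI := Fintype.ofFinite Ω
  haveI := Fact.mk S.hp
  have hp3 : 3 ≤ p := by have := S.hp.two_le; omega
  have hpodd : Odd p := S.hp.odd_of_ne_two hp2
  obtain ⟨b1, hb1, hb1b⟩ :=
    Set.exists_ne_of_one_lt_ncard (by rw [S.ncard hab]; exact S.hp.one_lt : 1 < (S.Δ a b).ncard) b
  have hfree : ∀ h ∈ S.st a b, h • b1 = b1 → h = 1 := fun h hh e => by
    have := S.fix_mem_X hab htr hh hb1 hb1b e
    rwa [hX, Subgroup.mem_bot] at this
  have hH : Nat.card (S.st a b) ≤ p - 1 := by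
    refine le_of_le_of_eq ?_ (congrArg (· - 1) (S.ncard hab))
    show Nat.card (S.st a b) ≤ (S.Δ a b).ncard - 1
    rw [← Set.ncard_diff_singleton_of_mem (S.mem hab), ← Nat.card_coe_set_eq]
    refine Nat.card_le_card_of_injective (fun h => ⟨(h : G) • b1, ?_, ?_⟩) fun g g' e => ?_
    · have := S.smul (h : G) hb1
      rwa [(S.mem_st.1 h.2).1, (S.mem_st.1 h.2).2] at this
    · exact fun e => hb1b (MulAction.injective (h : G) (e.trans (S.mem_st.1 h.2).2.symm))
    · have e' : (g : G) • b1 = (g' : G) • b1 := congrArg Subtype.val e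
      exact Subtype.ext (inv_mul_eq_one.1 (hfree _ (Subgroup.mul_mem _ (Subgroup.inv_mem _ g'.2) g.2)
        (by rw [mul_smul, e', inv_smul_smul]))).symm
  have hG : ∀ g : G, g • a = a → ∀ d, d ≠ a → ∃ h ∈ stabilizer G a, h • b = d := by
    intro _ _ d hd
    obtain ⟨h, h1, h2⟩ := S.two a b a d hab (Ne.symm hd)
    exact ⟨h, h1, h2⟩
  have hcardG : Nat.card G = (p ^ 2 + 1) * (p ^ 2 * Nat.card (S.st a b)) := by
    rw [← natCard_orbit_mul_stabilizer (K := G) a, S.card_stab hab, ← S.card]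
    congr 1
    rw [Nat.card_coe_set_eq, ← Set.ncard_univ]
    congr 1
    refine Set.eq_univ_iff_forall.2 fun d => ?_
    by_cases hd : d = a
    · rw [hd]; exact mem_orbit_self a
    · obtain ⟨g, hg, -⟩ := S.two a b d a hab hd
      exact ⟨g, hg⟩
  by_cases heven : 2 ∣ Nat.card (S.st a b)
  · obtain ⟨t, ht⟩ := exists_prime_orderOf_dvd_card' 2 heven
    have ht1 : (t : G) ≠ 1 := fun e => by
      rw [← Subgroup.coe_one (S.st a b)] at e
      rw [Subtype.ext e, orderOf_one] at ht
      omega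
    have ht2 : (t : G) * t = 1 := by
      have := pow_orderOf_eq_one t
      rw [ht, pow_two] at this
      exact congrArg Subtype.val this
    have huniq := S.exists_involution_data hab htr hX t.2 ht2 ht1
    have hfix : ∀ y, (t : G) • y = y → y = a ∨ y = b := by
      intro y hy
      refine S.fix_eq_pair hab (Subgroup.zpowers (t : G)) (Subgroup.zpowers_le.2 t.2)
        (by rwa [Ne, Subgroup.zpowers_eq_bot]) ?_ y ?_
      · intro g hg u hu
        have hgt := hg _ (Subgroup.mem_zpowers _)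
        have e : g * t * g⁻¹ = (t : G) := huniq _ hgt
          (by rw [show g * (t : G) * g⁻¹ * (g * t * g⁻¹) = g * (t * t) * g⁻¹ by group, ht2, mul_one, mul_inv_cancel])
          (fun e => ht1 (by rwa [mul_inv_eq_one, mul_eq_left] at e))
        obtain ⟨n, rfl⟩ := Subgroup.mem_zpowers_iff.1 hu
        rw [← conj_zpow, e]
        exact Subgroup.zpow_mem _ (Subgroup.mem_zpowers _) n
      · intro u hu
        obtain ⟨n, rfl⟩ := Subgroup.mem_zpowers_iff.1 hu
        exact (stabilizer G y).zpow_mem hy n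
    -- count the pairs moved by the conjugates of `t`
    let Cl : Set G := orbit (ConjAct G) (t : G)
    have hCl : ∀ x ∈ Cl, x * x = 1 ∧ {y : Ω | x • y = y}.ncard ≤ 2 := by
      rintro x ⟨g, rfl⟩
      obtain ⟨g, rfl⟩ := (ConjAct.toConjAct (G := G)).surjective g
      simp only [ConjAct.toConjAct_smul]
      refine ⟨by rw [show g * (t : G) * g⁻¹ * (g * t * g⁻¹) = g * (t * t) * g⁻¹ by group, ht2, mul_one, mul_inv_cancel], ?_⟩
      have hs : {y : Ω | (g * t * g⁻¹) • y = y} ⊆ {g • a, g • b} := by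
        intro y hy
        have : (t : G) • (g⁻¹ • y) = g⁻¹ • y := by
          rw [eq_inv_smul_iff, ← mul_smul, ← mul_smul]; exact hy
        rcases hfix _ this with e | e
        · exact Or.inl (inv_smul_eq_iff.1 e)
        · exact Or.inr (inv_smul_eq_iff.1 e)
      exact (Set.ncard_le_ncard hs).trans ((Set.ncard_insert_le _ _).trans (by rw [Set.ncard_singleton]))
    haveI := Fintype.ofFinite G
    let P : Finset (G × Ω) := (Cl.toFinset ×ˢ Finset.univ).filter fun q => q.1 • q.2 ≠ q.2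
    have hlow : Cl.ncard * (p ^ 2 - 1) ≤ P.card := by
      rw [Set.ncard_eq_toFinset_card', Finset.card_eq_sum_card_fiberwise (f := Prod.fst) (t := Cl.toFinset)
        (fun q hq => (Finset.mem_product.1 (Finset.mem_filter.1 hq).1).1), ← smul_eq_mul, ← Finset.sum_const]
      refine Finset.sum_le_sum fun x hx => ?_
      have h2 := (hCl x (Set.mem_toFinset.1 hx)).2
      have hcompl : ({y : Ω | x • y = y}ᶜ).ncard = p ^ 2 + 1 - {y : Ω | x • y = y}.ncard := by
        rw [Set.ncard_compl, S.card]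
      refine le_trans (?_ : p ^ 2 - 1 ≤ ({y : Ω | x • y = y}ᶜ).ncard) ?_
      · omega
      rw [Set.ncard_eq_toFinset_card']
      refine Finset.card_le_card_of_injOn (fun y => (x, y)) ?_ (fun u _ v _ e => (Prod.ext_iff.1 e).2)
      intro y hy
      simp only [Set.coe_toFinset, Set.mem_compl_iff, Set.mem_setOf_eq] at hy
      simp [P, hx, hy]
      exact Set.mem_toFinset.1 hx
    have hup : P.card ≤ ((p ^ 2 + 1) * p ^ 2) * Nat.card (S.st a b) := by
      have hT : (Finset.univ : Finset Ω).offDiag.card = (p ^ 2 + 1) * p ^ 2 := by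
        rw [Finset.offDiag_card, Finset.card_univ, ← Nat.card_eq_fintype_card, S.card, ← Nat.mul_sub_one,
          Nat.add_sub_cancel]
      rw [← hT, mul_comm]
      refine Finset.card_le_mul_card_image_of_maps_to (f := fun q : G × Ω => (q.2, q.1 • q.2)) ?_ _ ?_
      · intro q hq
        exact Finset.mem_offDiag.2 ⟨Finset.mem_univ _, Finset.mem_univ _, Ne.symm (Finset.mem_filter.1 hq).2⟩
      · rintro ⟨c, d⟩ hcd
        have hcd' : c ≠ d := (Finset.mem_offDiag.1 hcd).2.2
        obtain ⟨g0, hg1, hg2⟩ := S.two a b c d hab hcd'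
        by_cases he : (P.filter fun q => (q.2, q.1 • q.2) = (c, d)).Nonempty
        · obtain ⟨⟨x0, y0⟩, hx0⟩ := he
          simp only [P, Finset.mem_filter, Finset.mem_product, Prod.mk.injEq, Set.mem_toFinset] at hx0
          rw [Nat.card_eq_fintype_card, ← Finset.card_univ]
          have hmem : ∀ q ∈ P.filter (fun q => (q.2, q.1 • q.2) = (c, d)),
              g0⁻¹ * (x0⁻¹ * q.1) * g0 ∈ S.st a b := by
            rintro ⟨x, y⟩ hq
            simp only [P, Finset.mem_filter, Finset.mem_product, Prod.mk.injEq, Set.mem_toFinset] at hq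
            obtain ⟨⟨⟨hxCl, -⟩, -⟩, rfl, hxd⟩ := hq
            obtain ⟨⟨⟨hx0Cl, -⟩, -⟩, rfl, hx0d⟩ := hx0
            have hxx : x • d = y0 := by rw [← hxd, ← mul_smul, (hCl x hxCl).1, one_smul]
            have hxx0 : x0 • d = y0 := by rw [← hx0d, ← mul_smul, (hCl x0 hx0Cl).1, one_smul]
            refine S.mem_st.2 ⟨?_, ?_⟩
            · rw [mul_smul, mul_smul, hg1, mul_smul, hxd, ← hx0d, inv_smul_smul, ← hg1, inv_smul_smul]
            · rw [mul_smul, mul_smul, hg2, mul_smul, hxx, ← hxx0, inv_smul_smul, ← hg2, inv_smul_smul]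
          refine le_trans (le_of_eq ?_) (Finset.card_le_univ
            ((P.filter fun q => (q.2, q.1 • q.2) = (c, d)).attach.image fun q => (⟨_, hmem q.1 q.2⟩ : S.st a b)))
          rw [Finset.card_image_of_injective, Finset.card_attach]
          rintro ⟨⟨x, y⟩, hq⟩ ⟨⟨x', y'⟩, hq'⟩ e
          have e' := congrArg Subtype.val e
          have ex : x = x' := mul_left_cancel (mul_left_cancel (mul_right_cancel e'))
          simp only [P, Finset.mem_filter, Prod.mk.injEq] at hq hq'
          exact Subtype.ext (Prod.ext ex (hq.2.1.trans hq'.2.1.symm))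
        · rw [Finset.not_nonempty_iff_eq_empty.1 he]; simp
    have hcard : Nat.card G ≤ Cl.ncard * (2 * Nat.card (S.st a b)) := by
      have h := natCard_orbit_mul_stabilizer (K := ConjAct G) (t : G)
      rw [show Nat.card (ConjAct G) = Nat.card G from rfl, Nat.card_coe_set_eq] at h
      rw [← h]
      refine Nat.mul_le_mul_left _ ?_
      by_cases hu : ∃ g : G, g * t * g⁻¹ = t ∧ g • a = b
      · obtain ⟨u, hu1, hu2⟩ := hu
        rw [two_mul]
        let W : Set G := (S.st a b : Set G) ∪ (fun h => u * h) '' (S.st a b : Set G)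
        have hW : W.ncard ≤ Nat.card (S.st a b) + Nat.card (S.st a b) :=
          (Set.ncard_union_le _ _).trans (add_le_add (le_of_eq (Nat.card_coe_set_eq _).symm)
            ((Set.ncard_image_le (Set.toFinite _)).trans (le_of_eq (Nat.card_coe_set_eq _).symm)))
        refine le_trans ?_ hW
        rw [← Nat.card_coe_set_eq]
        refine Nat.card_le_card_of_injective (fun g => ⟨ConjAct.ofConjAct g.1, ?_⟩) fun g g' e => by
          have e' := congrArg Subtype.val e
          exact Subtype.ext (ConjAct.ofConjAct.injective e')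
        obtain ⟨g, hg⟩ := g
        obtain ⟨g, rfl⟩ := (ConjAct.toConjAct (G := G)).surjective g
        simp only [ConjAct.ofConjAct_toConjAct]
        rw [mem_stabilizer_iff, ConjAct.toConjAct_smul, mul_inv_eq_iff_eq_mul] at hg
        rw [mul_inv_eq_iff_eq_mul] at hu1
        have key : ∀ v : G, v * t = t * v → (v • a = a ∨ v • a = b) ∧ (v • b = a ∨ v • b = b) := fun v hv =>
          ⟨hfix _ (by rw [← mul_smul, ← hv, mul_smul, (S.mem_st.1 t.2).1]),
            hfix _ (by rw [← mul_smul, ← hv, mul_smul, (S.mem_st.1 t.2).2])⟩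
        obtain ⟨ga, gb⟩ := key g hg
        obtain ⟨ua, ub⟩ := key u hu1
        have ub' : u • b = a := ub.resolve_right (fun e => hab (MulAction.injective u (hu2.trans e.symm)))
        rcases ga with e | e
        · exact Or.inl (S.mem_st.2 ⟨e, gb.resolve_left fun e' => hab (MulAction.injective g (e.trans e'.symm))⟩)
        · refine Or.inr ⟨u⁻¹ * g, S.mem_st.2 ⟨by rw [mul_smul, e, inv_smul_eq_iff, hu2], ?_⟩, mul_inv_cancel_left u g⟩
          rw [mul_smul, gb.resolve_right (fun e' => hab (MulAction.injective g (e.trans e'.symm))), inv_smul_eq_iff, ub']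
      · push Not at hu
        refine le_trans ?_ (Nat.le_mul_of_pos_left _ two_pos)
        refine Nat.card_le_card_of_injective (fun g => ⟨ConjAct.ofConjAct g.1, ?_⟩) fun g g' e => by
          have e' := congrArg Subtype.val e
          exact Subtype.ext (ConjAct.ofConjAct.injective e')
        obtain ⟨g, hg⟩ := g
        obtain ⟨g, rfl⟩ := (ConjAct.toConjAct (G := G)).surjective g
        simp only [ConjAct.ofConjAct_toConjAct]
        rw [mem_stabilizer_iff, ConjAct.toConjAct_smul] at hg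
        have hu' := hu g hg
        rw [mul_inv_eq_iff_eq_mul] at hg
        rcases hfix (g • a) (by rw [← mul_smul, ← hg, mul_smul, (S.mem_st.1 t.2).1]) with e | e
        · rcases hfix (g • b) (by rw [← mul_smul, ← hg, mul_smul, (S.mem_st.1 t.2).2]) with e' | e'
          · exact absurd (MulAction.injective g (e.trans e'.symm)) hab
          · exact S.mem_st.2 ⟨e, e'⟩
        · exact absurd e hu'
    have hpos : 0 < (p ^ 2 + 1) * p ^ 2 * Nat.card (S.st a b) :=
      Nat.mul_pos (Nat.mul_pos (by omega) (pow_pos S.hp.pos 2)) Nat.card_pos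
    have h1 := Nat.mul_le_mul_right (2 * Nat.card (S.st a b)) (hlow.trans hup)
    have h2 : (p ^ 2 + 1) * p ^ 2 * Nat.card (S.st a b) * (p ^ 2 - 1) ≤
        (p ^ 2 + 1) * p ^ 2 * Nat.card (S.st a b) * (2 * Nat.card (S.st a b)) := by
      refine le_trans ?_ h1
      rw [show Cl.ncard * (p ^ 2 - 1) * (2 * Nat.card (S.st a b)) =
        Cl.ncard * (2 * Nat.card (S.st a b)) * (p ^ 2 - 1) by ring,
        show (p ^ 2 + 1) * p ^ 2 * Nat.card (S.st a b) = Nat.card G by rw [hcardG]; ring]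
      exact Nat.mul_le_mul_right _ hcard
    have h3 := Nat.le_of_mul_le_mul_left h2 hpos
    have : 3 * p ≤ p ^ 2 := by rw [pow_two]; exact Nat.mul_le_mul_right _ hp3
    omega
  · -- all point stabilisers have odd order
    have hstab : ∀ y : Ω, Odd (Nat.card (stabilizer G y)) := by
      intro y
      obtain ⟨g, hg⟩ : ∃ g : G, g • a = y := by
        by_cases hy : y = a
        · exact ⟨1, by rw [one_smul, hy]⟩
        · obtain ⟨g, hg, -⟩ := S.two a b y a hab hy
          exact ⟨g, hg⟩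
      rw [← hg, Nat.card_congr (stabilizerEquivStabilizer (a := a) (b := g • a) rfl).toEquiv.symm,
        S.card_stab hab]
      exact (hpodd.pow).mul (Nat.odd_iff.2 (by omega))
    let θ : G →* ℤˣ := Equiv.Perm.sign.comp (MulAction.toPermHom G Ω)
    have hker : ∀ y : Ω, ∀ g ∈ stabilizer G y, θ g = 1 := by
      intro y g hg
      obtain ⟨k, hk⟩ := (hstab y).of_dvd_nat (Subgroup.orderOf_dvd_natCard _ hg)
      have h := congrArg θ (pow_orderOf_eq_one g)
      rw [hk, map_pow, map_one, pow_succ, pow_mul, Int.units_sq, one_pow, one_mul] at h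
      exact h
    have hall : ∀ g, θ g = 1 := by
      intro g
      by_cases h : g • a = a
      · exact hker a g h
      have hab' : ∀ d, d ≠ a → d ≠ b → ∃ f : G, θ f = 1 ∧ f • a = d := by
        intro d _ hdb
        obtain ⟨f, hf1, hf2⟩ := S.two b a b d (Ne.symm hab) (Ne.symm hdb)
        exact ⟨f, hker b f hf1, hf2⟩
      obtain ⟨f, hf, hfa⟩ : ∃ f : G, θ f = 1 ∧ f • a = g • a := by
        by_cases hgb : g • a = b
        · obtain ⟨e, he1, he2⟩ := S.two a b1 a b (Ne.symm (S.ne hb1)) hab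
          obtain ⟨f, hf, hfa⟩ := hab' b1 (S.ne hb1) hb1b
          exact ⟨e * f, by rw [map_mul, hker a e he1, hf, one_mul], by rw [mul_smul, hfa, he2, hgb]⟩
        · exact hab' _ h hgb
      have h2 := hker a (f⁻¹ * g) (by rw [mem_stabilizer_iff, mul_smul, ← hfa, inv_smul_smul])
      rwa [map_mul, map_inv, hf, inv_one, one_mul] at h2
    obtain ⟨u, hu⟩ := exists_prime_orderOf_dvd_card' 2 (show 2 ∣ Nat.card G by
      rw [hcardG]; exact Dvd.dvd.mul_right ((hpodd.pow).add_one.two_dvd) _)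
    set σ := MulAction.toPermHom G Ω u with hσ
    have hmov : ∀ y, σ y ≠ y := by
      intro y e
      have := (hstab y).of_dvd_nat (Subgroup.orderOf_dvd_natCard _ (show u ∈ stabilizer G y from e))
      rw [hu] at this
      exact absurd this (by decide)
    have hσ2 : orderOf σ = 2 := by
      refine orderOf_eq_prime ?_ fun e => hmov a (by rw [e]; rfl)
      rw [hσ, ← map_pow, ← hu, pow_orderOf_eq_one, map_one]
    obtain ⟨n, hn⟩ := Equiv.Perm.cycleType_prime_order (σ := σ) (hσ2.symm ▸ Nat.prime_two)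
    rw [hσ2] at hn
    have hsupp : σ.support = Finset.univ :=
      Finset.eq_univ_iff_forall.2 fun y => Equiv.Perm.mem_support.2 (hmov y)
    have hsum := Equiv.Perm.sum_cycleType σ
    rw [hn, Multiset.sum_replicate, hsupp, Finset.card_univ, ← Nat.card_eq_fintype_card, S.card, smul_eq_mul] at hsum
    have hsign : Equiv.Perm.sign σ = 1 := hall u
    rw [Equiv.Perm.sign_of_cycleType, hn, Multiset.sum_replicate, Multiset.card_replicate, smul_eq_mul] at hsign
    have hodd : Odd (n + 1) := by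
      obtain ⟨k, hk⟩ := hpodd
      rw [hk, show (2 * k + 1) ^ 2 + 1 = 2 * (2 * (k * k + k) + 1) by ring] at hsum
      exact ⟨k * k + k, by omega⟩
    rw [pow_add, mul_comm (n + 1) 2, pow_mul, Int.units_sq, one_pow, one_mul, hodd.neg_one_pow] at hsign
    exact absurd hsign (by decide)

include S in
theorem false_of_odd (hp2 : p ≠ 2) {a b : Ω} (hab : a ≠ b) : False := by
  by_cases htr : S.Tr a b
  · exact S.false_of_tr hab hp2 htr
  by_cases hX : S.X a b = ⊥
  · exact S.false_of_semiregular hab hp2 htr hX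
  obtain ⟨t, ht, ht1⟩ := (Subgroup.bot_or_exists_ne_one _).resolve_left hX
  exact S.false_of_X_ne_bot (Ne.symm hab) (fun h => htr (S.tr_symm (Ne.symm hab) h)) ht ht1

include S in
theorem card_of_two (hp2 : p = 2) {a b : Ω} (hab : a ≠ b) : Nat.card G = 20 := by
  have hX : ∀ a b : Ω, a ≠ b → S.st a b ≤ S.X a b := by
    intro a b hab g hg
    obtain ⟨h1, h2⟩ := S.mem_st.1 hg
    obtain ⟨c, d, hcd, he⟩ := Set.ncard_eq_two.1 ((S.ncard hab).trans hp2)
    refine ⟨h1, fun y hy => ?_⟩
    have hm := S.mem (x := a) (y := b) hab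
    have hgy := S.smul g hy
    rw [h1, h2] at hgy
    rw [he] at hy hm hgy
    simp only [Set.mem_insert_iff, Set.mem_singleton_iff] at hy hm hgy
    have hinj : ∀ u, u ≠ b → g • u ≠ b := fun u hu e => hu (MulAction.injective g (e.trans h2.symm))
    by_cases hyb : y = b
    · rw [hyb, h2]
    · have := hinj y hyb
      grind
  have hbot : Nat.card (S.st a b) = 1 := by
    rw [Subgroup.card_eq_one, Subgroup.eq_bot_iff_forall]
    intro g hg
    exact S.X_inf_X hab (hX a b hab hg)
      (hX b a (Ne.symm hab) (S.mem_st.2 ⟨(S.mem_st.1 hg).2, (S.mem_st.1 hg).1⟩))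
  have hcardG : Nat.card G = (p ^ 2 + 1) * (p ^ 2 * Nat.card (S.st a b)) := by
    rw [← natCard_orbit_mul_stabilizer (K := G) a, S.card_stab hab, ← S.card]
    congr 1
    rw [Nat.card_coe_set_eq, ← Set.ncard_univ]
    congr 1
    refine Set.eq_univ_iff_forall.2 fun d => ?_
    by_cases hd : d = a
    · rw [hd]; exact mem_orbit_self a
    · obtain ⟨g, hg, -⟩ := S.two a b d a hab hd
      exact ⟨g, hg⟩
  rw [hcardG, hbot, hp2]
  norm_num

end Sys

end Cfsg.Agent.PSqPlusOne
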